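import Groth.Agent.LC.MatlisExtra
import Mathlib.RingTheory.Finiteness.Descent
import Mathlib.RingTheory.Flat.Basic
import Mathlib.RingTheory.TensorProduct.Maps
import Mathlib.RingTheory.Localization.Away.Basic
import Mathlib.RingTheory.AdicCompletion.AsTensorProduct

/-!
Patching an algebra on the punctured spectrum with an algebra over the completion.
-/

universe u

open IsLocalRing TensorProduct

set_option linter.style.haveILetI false

namespace Groth.Agent.FormalPatch

variable {A : Type u} [CommRing A] [IsLocalRing A] {R N B' : Type u} [CommRing R] [Algebra A R]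
  [CommRing N] [Algebra A N] [CommRing B'] [Algebra A B'] [Algebra R B'] [IsScalarTower A R B']
  (φ : B' →ₐ[R] R ⊗[A] N)

/-- The patched algebra. -/
def patch : Subalgebra A (B' × N) :=
  AlgHom.equalizer ((φ.restrictScalars A).comp (AlgHom.fst A B' N))
    ((Algebra.TensorProduct.includeRight : N →ₐ[A] R ⊗[A] N).comp (AlgHom.snd A B' N))

theorem mem_patch (x : B' × N) : x ∈ patch φ ↔ φ x.1 = (1 : R) ⊗ₜ[A] x.2 := Iff.rfl

/-- The projection to the algebra on the punctured spectrum. -/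
def toPunct : ↥(patch φ) →ₐ[A] N := (AlgHom.snd A B' N).comp (patch φ).val

/-- The projection to the algebra over the completion, made linear over the completion. -/
noncomputable def toCompl : R ⊗[A] ↥(patch φ) →ₐ[R] B' :=
  Algebra.TensorProduct.lift (Algebra.ofId R B') ((AlgHom.fst A B' N).comp (patch φ).val)
    fun _ _ => .all _ _

theorem toCompl_tmul (r : R) (x : ↥(patch φ)) : toCompl φ (r ⊗ₜ[A] x) = algebraMap R B' r * x.1.1 :=
  Algebra.TensorProduct.lift_tmul _ _ _ _ _

theorem phi_toCompl (y : R ⊗[A] ↥(patch φ)) :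
    φ (toCompl φ y) = LinearMap.lTensor R (toPunct φ).toLinearMap y := by
  induction y using TensorProduct.induction_on with
  | zero => simp
  | tmul r x =>
    rw [toCompl_tmul, map_mul, AlgHom.commutes, (mem_patch φ x.1).1 x.2]
    show r ⊗ₜ[A] (1 : N) * ((1 : R) ⊗ₜ[A] x.1.2) = r ⊗ₜ[A] x.1.2
    rw [Algebra.TensorProduct.tmul_mul_tmul, mul_one, one_mul]
  | add a b ha hb => rw [map_add, map_add, ha, hb, map_add]

variable [Module.Flat A R]
  (hmk : ∀ (T : Type u) [AddCommGroup T] [Module A T], LocCoh.IsPowerTorsion (maximalIdeal A) T →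
    Function.Bijective (TensorProduct.mk A R T 1))
  (hker : ∀ b : B', φ b = 0 → ∃ n : ℕ, ∀ a ∈ maximalIdeal A ^ n, a • b = 0)
  (hcoker : ∀ s : R ⊗[A] N, ∃ n : ℕ, ∀ a ∈ maximalIdeal A ^ n, a • s ∈ Set.range φ)

include hmk hker hcoker

/-- The patched algebra becomes the given one over the completion. -/
theorem toCompl_bijective : Function.Bijective (toCompl φ) := by
  let L : B' →ₗ[A] R ⊗[A] N := (φ.restrictScalars A).toLinearMap
  let Q := (R ⊗[A] N) ⧸ φ.toLinearMap.range
  let q : N →ₗ[A] Q := (φ.toLinearMap.range.mkQ.restrictScalars A).comp (TensorProduct.mk A R N 1)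
  let p₂ := (toPunct φ).toLinearMap
  have hQ : LocCoh.IsPowerTorsion (maximalIdeal A) Q := by
    intro z
    obtain ⟨s, rfl⟩ := Submodule.Quotient.mk_surjective _ z
    obtain ⟨n, hn⟩ := hcoker s
    exact ⟨n, fun a ha => by rw [← Submodule.Quotient.mk_smul, Submodule.Quotient.mk_eq_zero]; exact hn a ha⟩
  have hexact : Function.Exact p₂ q := by
    intro n
    constructor
    · intro h
      obtain ⟨b, hb⟩ := (Submodule.Quotient.mk_eq_zero _).1 (show Submodule.Quotient.mk ((1 : R) ⊗ₜ[A] n) = (0 : Q) from h)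
      exact ⟨⟨(b, n), hb⟩, rfl⟩
    · rintro ⟨x, rfl⟩
      exact (Submodule.Quotient.mk_eq_zero _).2 ⟨x.1.1, x.2⟩
  let ν : R ⊗[A] Q →ₗ[R] Q := TensorProduct.AlgebraTensorModule.lift
    ((LinearMap.lsmul R Q).flip.restrictScalars A).flip
  have hν : ∀ (r : R) (z : Q), ν (r ⊗ₜ z) = r • z := fun r z => rfl
  have hνinj : Function.Injective ν := by
    intro x y hxy
    obtain ⟨x, rfl⟩ := (hmk Q hQ).2 x
    obtain ⟨y, rfl⟩ := (hmk Q hQ).2 y
    simp only [TensorProduct.mk_apply, hν, one_smul] at hxy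
    rw [hxy]
  have hqR : ∀ s : R ⊗[A] N, ν (LinearMap.lTensor R q s) = Submodule.Quotient.mk s := by
    intro s
    induction s using TensorProduct.induction_on with
    | zero => simp
    | tmul r n =>
      rw [LinearMap.lTensor_tmul, hν]
      show r • Submodule.Quotient.mk ((1 : R) ⊗ₜ[A] n) = _
      rw [← Submodule.Quotient.mk_smul, smul_tmul', smul_eq_mul, mul_one]
    | add a b ha hb => rw [map_add, map_add, ha, hb, Submodule.Quotient.mk_add]
  let K : Submodule A B' := LinearMap.ker L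
  have hK : LocCoh.IsPowerTorsion (maximalIdeal A) ↥K := fun b => by
    obtain ⟨n, hn⟩ := hker b.1 b.2
    exact ⟨n, fun a ha => Subtype.ext (hn a ha)⟩
  let j : ↥K →ₗ[A] ↥(patch φ) :=
    { toFun := fun k => ⟨(k.1, 0), by
          rw [mem_patch]; show φ k.1 = (1 : R) ⊗ₜ[A] (0 : N)
          rw [tmul_zero]; exact LinearMap.mem_ker.1 k.2⟩
      map_add' := fun k l => Subtype.ext (Prod.ext rfl (add_zero 0).symm)
      map_smul' := fun a k => Subtype.ext (Prod.ext rfl (smul_zero a).symm) }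
  have hexact' : Function.Exact j p₂ := by
    intro x
    constructor
    · intro h
      have h2 : x.1.2 = 0 := h
      refine ⟨⟨x.1.1, LinearMap.mem_ker.2 ?_⟩, Subtype.ext (Prod.ext rfl h2.symm)⟩
      show φ x.1.1 = 0
      rw [(mem_patch φ x.1).1 x.2, h2, tmul_zero]
    · rintro ⟨k, rfl⟩; rfl
  have hμj : ∀ k : ↥K, toCompl φ ((1 : R) ⊗ₜ[A] j k) = k.1 := fun k => by
    rw [toCompl_tmul, map_one, one_mul]; rfl
  constructor
  · intro y y' hyy
    rw [← sub_eq_zero] at hyy ⊢
    rw [← map_sub] at hyy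
    have h1 : LinearMap.lTensor R p₂ (y - y') = 0 := by rw [← phi_toCompl, hyy, map_zero]
    obtain ⟨z, hz⟩ := (Module.Flat.lTensor_exact R hexact' (y - y')).1 h1
    obtain ⟨k, rfl⟩ := (hmk ↥K hK).2 z
    rw [← hz, TensorProduct.mk_apply, LinearMap.lTensor_tmul] at hyy ⊢
    rw [hμj] at hyy
    rw [show k = 0 from Subtype.ext hyy, map_zero, tmul_zero]
  · intro b
    have h1 : LinearMap.lTensor R q (φ b) = 0 := hνinj (by
      rw [map_zero, hqR]
      exact (Submodule.Quotient.mk_eq_zero _).2 ⟨b, rfl⟩)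
    obtain ⟨y, hy⟩ := (Module.Flat.lTensor_exact R hexact (φ b)).1 h1
    have hk : b - toCompl φ y ∈ K := by
      rw [LinearMap.mem_ker]
      show φ (b - toCompl φ y) = 0
      rw [map_sub, phi_toCompl, hy, sub_self]
    exact ⟨y + (1 : R) ⊗ₜ[A] j ⟨_, hk⟩, by rw [map_add, hμj, add_sub_cancel]⟩

/-- The patched algebra is finite. -/
theorem finite_patch [Module.FaithfullyFlat A R] [Module.Finite R B'] : Module.Finite A ↥(patch φ) := by
  haveI : Module.Finite R (R ⊗[A] ↥(patch φ)) :=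
    Module.Finite.equiv (AlgEquiv.ofBijective _ (toCompl_bijective φ hmk hker hcoker)).symm.toLinearEquiv
  exact Module.Finite.of_finite_tensorProduct_of_faithfullyFlat R

omit hmk in
/-- On the punctured spectrum the patched algebra is the given one. -/
theorem exists_of_mem_maximalIdeal {f : A} (hf : f ∈ maximalIdeal A) :
    (∀ x : ↥(patch φ), toPunct φ x = 0 → ∃ n : ℕ, f ^ n • x = 0) ∧
      ∀ s : N, ∃ (n : ℕ) (x : ↥(patch φ)), toPunct φ x = f ^ n • s := by
  refine ⟨fun x hx => ?_, fun s => ?_⟩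
  · have h2 : x.1.2 = 0 := hx
    obtain ⟨n, hn⟩ := hker x.1.1 (by rw [(mem_patch φ x.1).1 x.2, h2, tmul_zero])
    exact ⟨n, Subtype.ext (Prod.ext (hn _ (Ideal.pow_mem_pow hf n)) (by
      show f ^ n • x.1.2 = 0
      rw [h2, smul_zero]))⟩
  · obtain ⟨n, hn⟩ := hcoker ((1 : R) ⊗ₜ[A] s)
    obtain ⟨b, hb⟩ := hn _ (Ideal.pow_mem_pow hf n)
    refine ⟨n, ⟨(b, f ^ n • s), ?_⟩, rfl⟩
    rw [mem_patch]
    show φ b = _
    rw [hb, tmul_smul]

end Groth.Agent.FormalPatch
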