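import Groth.Agent.FormalPatch.Main
import Mathlib.AlgebraicGeometry.Morphisms.LocalFlatDescent
import Mathlib.AlgebraicGeometry.Morphisms.Etale

/-!
Extension of finite (étale) covers of the punctured spectrum, after completion.
-/

universe u

open CategoryTheory CategoryTheory.Limits AlgebraicGeometry IsLocalRing

set_option linter.style.haveILetI false

namespace Groth.Agent.FormalPatch

variable (A : Type u) [CommRing A] [IsNoetherianRing A] [IsLocalRing A]

set_option backward.isDefEq.respectTransparency false in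
/-- Finite schemes on the punctured spectrum which extend over the completion extend. -/
theorem exists_finite_extension {V : Scheme.{u}} (v : V ⟶ (FEt.puncturedSpec A : Scheme.{u})) [IsFinite v]
    {Y' : Scheme.{u}} (y' : Y' ⟶ Spec (CommRingCat.of (AdicCompletion (maximalIdeal A) A))) [IsFinite y']
    (e : pullback v (pullback.fst (FEt.puncturedSpec A).ι (specCompl A)) ≅
      pullback y' (pullback.snd (FEt.puncturedSpec A).ι (specCompl A)))
    (he : e.hom ≫ pullback.snd _ _ = pullback.snd _ _) :
    ∃ (Y : Scheme.{u}) (y : Y ⟶ Spec (CommRingCat.of A)) (t : V ⟶ Y) (s : Y' ⟶ Y),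
      IsFinite y ∧ IsPullback t v y (FEt.puncturedSpec A).ι ∧ IsPullback s y' y (specCompl A) := by
  let U := FEt.puncturedSpec A
  let r := pullbackRightPullbackFstIso U.ι (specCompl A) v
  let j : pullback (v ≫ U.ι) (specCompl A) ⟶ Y' := r.inv ≫ e.hom ≫ pullback.fst y' (pullback.snd U.ι (specCompl A))
  have hsnd : r.inv ≫ pullback.snd v (pullback.fst U.ι (specCompl A)) ≫ pullback.snd U.ι (specCompl A) =
      pullback.snd (v ≫ U.ι) (specCompl A) := pullbackRightPullbackFstIso_inv_snd_snd U.ι (specCompl A) v
  have hj : j ≫ y' = pullback.snd _ _ := by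
    simp only [j, Category.assoc, pullback.condition]
    rw [reassoc_of% he]
    exact hsnd
  have hjr : Set.range j.base = (y' ≫ specCompl A).base ⁻¹' (U : Set _) := by
    have h1 : Set.range j.base = Set.range (pullback.fst y' (pullback.snd U.ι (specCompl A))).base := by
      refine Set.Subset.antisymm ?_ ?_
      · rintro _ ⟨x, rfl⟩
        exact ⟨(r.inv ≫ e.hom).base x, by simp only [j, Scheme.Hom.comp_apply]; rfl⟩
      · rintro _ ⟨x, rfl⟩
        obtain ⟨z, hz⟩ := (r.inv ≫ e.hom).surjective x
        exact ⟨z, by rw [← hz]; simp only [j, Scheme.Hom.comp_apply]; rfl⟩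
    rw [h1, Scheme.Pullback.range_fst, Scheme.Pullback.range_snd, Scheme.Opens.range_ι]
    rfl
  obtain ⟨B, p, hp, t, ι, h1, h2⟩ := exists_patch A v y' j hj hjr
  exact ⟨Spec B, Spec.map p, t, _, (IsFinite.SpecMap_iff p).2 hp, h1, h2⟩

end Groth.Agent.FormalPatch
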