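import Groth.Agent.HensCouple7.Gamma
import Groth.Prelude.Def_FEt
import Mathlib.RingTheory.Etale.Pi
import Mathlib.AlgebraicGeometry.Morphisms.Finite
import Mathlib.AlgebraicGeometry.Morphisms.Etale
import Mathlib.AlgebraicGeometry.GammaSpecAdjunction

/-!
Clopen subsets of covers from full faithfulness of restriction.
-/

universe u

open CategoryTheory CategoryTheory.Limits AlgebraicGeometry

set_option linter.style.haveILetI false

namespace Groth.Agent.FormalPatch

variable (A : Type u) [CommRing A] [IsNoetherianRing A]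

/-- Two copies of the base. -/
noncomputable abbrev twoPoints : Spec (CommRingCat.of (Fin 2 → A)) ⟶ Spec (CommRingCat.of A) :=
  Spec.map (CommRingCat.ofHom (algebraMap A (Fin 2 → A)))

theorem prop_twoPoints : FEt.prop (twoPoints A) := by
  haveI : ∀ _i : Fin 2, Algebra.FormallyEtale A A := fun _ => inferInstance
  haveI : Algebra.FormallyEtale A (Fin 2 → A) := (Algebra.FormallyEtale.pi_iff fun _ : Fin 2 => A).2 ‹_›
  haveI : Algebra.FinitePresentation A (Fin 2 → A) := Algebra.FinitePresentation.of_finiteType.1 inferInstance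
  haveI : Algebra.Etale A (Fin 2 → A) := ⟨inferInstance, inferInstance⟩
  exact ⟨(IsFinite.SpecMap_iff _).2 (RingHom.finite_algebraMap.2 inferInstance),
    (HasRingHomProperty.Spec_iff (P := @Etale)).2 (RingHom.etale_algebraMap.2 ‹_›)⟩

variable {A}

/-- The ring map attached to an idempotent. -/
noncomputable def idemHom {T : Type u} [CommRing T] (a : A →+* T) (ε : T) (hε : ε * ε = ε) : (Fin 2 → A) →+* T where
  toFun x := a (x 0) * ε + a (x 1) * (1 - ε)
  map_one' := by simp
  map_mul' x y := by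
    simp only [Pi.mul_apply, map_mul]
    linear_combination (-(a (x 0) * a (y 0)) + a (x 0) * a (y 1) + a (x 1) * a (y 0) - a (x 1) * a (y 1)) * hε
  map_zero' := by simp
  map_add' x y := by
    simp only [Pi.add_apply, map_add]
    ring

/-- The function attached to a map to two points. -/
noncomputable def idemOf {T : Scheme.{u}} (m : T ⟶ Spec (CommRingCat.of (Fin 2 → A))) : Γ(T, ⊤) :=
  ((Scheme.ΓSpecIso (CommRingCat.of (Fin 2 → A))).inv ≫ m.appTop) (Pi.single 0 1)

theorem idemOf_idem {T : Scheme.{u}} (m : T ⟶ Spec (CommRingCat.of (Fin 2 → A))) :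
    idemOf m * idemOf m = idemOf m := by
  rw [idemOf, ← map_mul, ← Pi.single_mul, one_mul]

theorem idemOf_comp {T T' : Scheme.{u}} (h : T' ⟶ T) (m : T ⟶ Spec (CommRingCat.of (Fin 2 → A))) :
    idemOf (h ≫ m) = h.appTop (idemOf m) := by
  rw [idemOf, idemOf, Scheme.Hom.comp_appTop, ← Category.assoc]
  rfl

theorem exists_hom_idem {T : Scheme.{u}} (g : T ⟶ Spec (CommRingCat.of A)) (ε : Γ(T, ⊤)) (hε : ε * ε = ε) :
    ∃ m : T ⟶ Spec (CommRingCat.of (Fin 2 → A)), m ≫ twoPoints A = g ∧ idemOf m = ε := by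
  let a := ((Scheme.ΓSpecIso (CommRingCat.of A)).inv ≫ g.appTop).hom
  let ψ : CommRingCat.of (Fin 2 → A) ⟶ Γ(T, ⊤) := CommRingCat.ofHom (idemHom a ε hε)
  refine ⟨T.toSpecΓ ≫ Spec.map ψ, ?_, ?_⟩
  · have hψ : CommRingCat.ofHom (algebraMap A (Fin 2 → A)) ≫ ψ = (Scheme.ΓSpecIso (CommRingCat.of A)).inv ≫ g.appTop := by
      ext x
      show a x * ε + a x * (1 - ε) = a x
      ring
    rw [twoPoints, Category.assoc, ← Spec.map_comp, hψ, Spec.map_comp, ← Category.assoc,
      ← Scheme.toSpecΓ_naturality, Category.assoc, toSpecΓ_SpecMap_ΓSpecIso_inv, Category.comp_id]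
  · have h : (T.toSpecΓ ≫ Spec.map ψ).appTop = (Scheme.ΓSpecIso _).hom ≫ ψ := by
      rw [Scheme.Hom.comp_appTop, Scheme.toSpecΓ_appTop, Scheme.ΓSpecIso_naturality]
    rw [idemOf, h, Iso.inv_hom_id_assoc]
    show a (Pi.single (M := fun _ => A) 0 1 0) * ε + a (Pi.single (M := fun _ => A) 0 1 1) * (1 - ε) = ε
    simp

variable {X S : Scheme.{u}} (g : S ⟶ Spec (CommRingCat.of A)) (f : X ⟶ S)

/-- Two copies of `S`, as a cover. -/
noncomputable def twoCover : FEt.Cat S :=
  (FEt.restrict g).obj (MorphismProperty.Over.mk ⊤ (twoPoints A) (prop_twoPoints A))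

include g in
/-- Fullness extends clopen subsets of restricted covers. -/
theorem exists_isClopen_of_full [(FEt.restrict f).Full] (W : FEt.Cat S) (C : Set ↥(pullback W.hom f))
    (hC : IsClopen C) : ∃ G : Set W.left, IsClopen G ∧ (pullback.fst W.hom f).base ⁻¹' G = C := by
  obtain ⟨ε, hε, hεC⟩ := HensCouple7.exists_idempotent_of_isClopen hC
  obtain ⟨m, hm, hmε⟩ := exists_hom_idem (pullback.fst W.hom f ≫ W.hom ≫ g) ε hε
  let E := twoCover g
  have hw1 : pullback.fst W.hom f ≫ W.hom = pullback.snd W.hom f ≫ f := pullback.condition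
  let l : pullback W.hom f ⟶ E.left := pullback.lift (f := twoPoints A) (g := g) m (pullback.fst W.hom f ≫ W.hom)
    (by rw [hm, Category.assoc])
  have hl : l ≫ E.hom = pullback.snd W.hom f ≫ f := by
    rw [← hw1]; exact pullback.lift_snd _ _ _
  let ψ : (FEt.restrict f).obj W ⟶ (FEt.restrict f).obj E :=
    MorphismProperty.Over.homMk (pullback.lift l (pullback.snd W.hom f) hl) (pullback.lift_snd _ _ _)
  obtain ⟨φ, hφ⟩ := (FEt.restrict f).map_surjective ψ
  let m₀ : W.left ⟶ Spec (CommRingCat.of (Fin 2 → A)) := φ.left ≫ pullback.fst (twoPoints A) g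
  have hmm : pullback.fst W.hom f ≫ m₀ = m := by
    have h1 := congrArg (fun k => k.left ≫ pullback.fst E.hom f) hφ
    simp [FEt.restrict, ψ] at h1
    erw [pullback.lift_fst] at h1
    have h2 : pullback.fst W.hom f ≫ φ.left = l := h1.trans (pullback.lift_fst _ _ _)
    exact ((Category.assoc _ _ _).symm.trans (congrArg (fun z => z ≫ pullback.fst (twoPoints A) g) h2)).trans
      (pullback.lift_fst _ _ _)
  refine ⟨(W.left.basicOpen (idemOf m₀) : Set W.left), ⟨?_, (W.left.basicOpen _).isOpen⟩, ?_⟩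
  · rw [← isOpen_compl_iff, ← HensCouple7.basicOpen_compl_of_idem (idemOf_idem m₀)]
    exact (W.left.basicOpen _).isOpen
  · have key : ∀ r : Γ(W.left, ⊤), (pullback.fst W.hom f).base ⁻¹' (W.left.basicOpen r : Set W.left) =
        ((pullback W.hom f).basicOpen ((pullback.fst W.hom f).appTop r) : Set _) := fun r => by
      rw [← Scheme.preimage_basicOpen_top]; rfl
    rw [← hεC, ← hmε, ← hmm]
    refine (key _).trans ?_
    congr 2

include g in
/-- Faithfulness forces clopen subsets to meet the image. -/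
theorem eq_empty_of_faithful [(FEt.restrict f).Faithful] {O : Set S} (hO : IsClopen O)
    (h : Disjoint O (Set.range f.base)) : O = ∅ := by
  obtain ⟨ε, hε, hεO⟩ := HensCouple7.exists_idempotent_of_isClopen hO
  obtain ⟨m, hm, hmε⟩ := exists_hom_idem g ε hε
  obtain ⟨m', hm', hmε'⟩ := exists_hom_idem g 0 (mul_zero _)
  let E := twoCover g
  let one : FEt.Cat S := MorphismProperty.Over.mk ⊤ (𝟙 S) (MorphismProperty.id_mem _ _)
  let φ : one ⟶ E := MorphismProperty.Over.homMk (pullback.lift (f := twoPoints A) (g := g) m (𝟙 S) (hm.trans (Category.id_comp _).symm)) (pullback.lift_snd _ _ _)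
  let φ' : one ⟶ E := MorphismProperty.Over.homMk (pullback.lift (f := twoPoints A) (g := g) m' (𝟙 S) (hm'.trans (Category.id_comp _).symm)) (pullback.lift_snd _ _ _)
  have hεf : f.appTop ε = 0 := by
    refine HensCouple7.eq_of_basicOpen_eq (by rw [← map_mul, hε]) (mul_zero _) ?_
    rw [Scheme.basicOpen_zero, ← Scheme.preimage_basicOpen_top]
    ext x
    exact ⟨fun hx => (Set.disjoint_left.1 h (hεO.subset hx) ⟨x, rfl⟩).elim, fun hx => hx.elim⟩
  have hfm : f ≫ m = f ≫ m' := by
    have key : ∀ {T : Scheme.{u}} (k k' : T ⟶ Spec (CommRingCat.of (Fin 2 → A))),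
        k ≫ twoPoints A = k' ≫ twoPoints A → idemOf k = idemOf k' → k = k' := by
      intro T k k' hk he
      have hb : (Scheme.ΓSpecIso (CommRingCat.of (Fin 2 → A))).inv ≫ k.appTop =
          (Scheme.ΓSpecIso (CommRingCat.of (Fin 2 → A))).inv ≫ k'.appTop := by
        have hconst : ∀ a : A, ((Scheme.ΓSpecIso (CommRingCat.of (Fin 2 → A))).inv ≫ k.appTop) (algebraMap A _ a) =
            ((Scheme.ΓSpecIso (CommRingCat.of (Fin 2 → A))).inv ≫ k'.appTop) (algebraMap A _ a) := fun a => by
          have h1 := congrArg (fun z => (Scheme.ΓSpecIso (CommRingCat.of A)).inv ≫ z.appTop) hk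
          simp only [Scheme.Hom.comp_appTop, twoPoints, ← Scheme.ΓSpecIso_inv_naturality_assoc] at h1
          exact congr($(h1).hom a)
        refine CommRingCat.hom_ext (RingHom.ext fun x => ?_)
        have hx : x = algebraMap A (Fin 2 → A) (x 0) * Pi.single 0 1 +
            algebraMap A (Fin 2 → A) (x 1) * (1 - Pi.single 0 1) := by
          funext i; fin_cases i <;> simp
        rw [hx]
        simp only [map_add, map_mul, map_sub, map_one, hconst]
        rw [show ((Scheme.ΓSpecIso (CommRingCat.of (Fin 2 → A))).inv ≫ k.appTop) (Pi.single 0 1) = _ from he]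
        rfl
      have hrec : ∀ l : T ⟶ Spec (CommRingCat.of (Fin 2 → A)),
          l = T.toSpecΓ ≫ Spec.map ((Scheme.ΓSpecIso (CommRingCat.of (Fin 2 → A))).inv ≫ l.appTop) := fun l => by
        rw [Spec.map_comp, ← Category.assoc, ← Scheme.toSpecΓ_naturality, Category.assoc,
          toSpecΓ_SpecMap_ΓSpecIso_inv, Category.comp_id]
      rw [hrec k, hrec k', hb]
    refine key _ _ (by rw [Category.assoc, Category.assoc, hm, hm']) ?_
    rw [idemOf_comp, idemOf_comp, hmε, hmε', hεf, map_zero]
  have hc : pullback.fst one.hom f = pullback.snd one.hom f ≫ f :=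
    (Category.comp_id _).symm.trans (pullback.condition (f := one.hom) (g := f))
  have hleft : ∀ (k : S ⟶ Spec (CommRingCat.of (Fin 2 → A))) (hk : k ≫ twoPoints A = 𝟙 S ≫ g),
      (pullback.fst one.hom f ≫ pullback.lift k (𝟙 S) hk) ≫ pullback.fst (twoPoints A) g =
        pullback.snd one.hom f ≫ f ≫ k := fun k hk => by
    refine (Category.assoc _ _ _).trans ?_
    refine (congrArg (fun z => pullback.fst one.hom f ≫ z) (pullback.lift_fst k (𝟙 S) hk)).trans ?_
    exact (congrArg (fun z => z ≫ k) hc).trans (Category.assoc _ _ _)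
  have hsndE : ∀ (k : S ⟶ Spec (CommRingCat.of (Fin 2 → A))) (hk : k ≫ twoPoints A = 𝟙 S ≫ g),
      (pullback.fst one.hom f ≫ pullback.lift k (𝟙 S) hk) ≫ pullback.snd (twoPoints A) g =
        pullback.fst one.hom f := fun k hk => by
    refine (Category.assoc _ _ _).trans ?_
    exact (congrArg (fun z => pullback.fst one.hom f ≫ z) (pullback.lift_snd k (𝟙 S) hk)).trans (Category.comp_id _)
  have hkk : pullback.fst one.hom f ≫ φ.left = pullback.fst one.hom f ≫ φ'.left := by
    refine pullback.hom_ext ?_ ?_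
    · exact (hleft m _).trans ((congrArg (fun z => pullback.snd one.hom f ≫ z) hfm).trans (hleft m' _).symm)
    · exact (hsndE m _).trans (hsndE m' _).symm
  have hmap : (FEt.restrict f).map φ = (FEt.restrict f).map φ' := by
    refine MorphismProperty.Over.Hom.ext ?_
    show pullback.lift (pullback.fst one.hom f ≫ φ.left) (pullback.snd one.hom f) _ =
      pullback.lift (pullback.fst one.hom f ≫ φ'.left) (pullback.snd one.hom f) _
    congr 1
  have hφφ := congrArg (fun k => k.left ≫ pullback.fst (twoPoints A) g) ((FEt.restrict f).map_injective hmap)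
  simp [φ, φ'] at hφφ
  erw [pullback.lift_fst, pullback.lift_fst] at hφφ
  have h0 : ε = 0 := by rw [← hmε, hφφ, hmε']
  rw [← hεO, h0, Scheme.basicOpen_zero]
  rfl

end Groth.Agent.FormalPatch
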