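import Groth.Agent.LC.MatlisExtra
import Mathlib.RingTheory.Flat.Basic
import Mathlib.RingTheory.Finiteness.Descent
import Mathlib.RingTheory.TensorProduct.Maps
import Mathlib.RingTheory.IntegralClosure.IntegralRestrict
import Mathlib.RingTheory.AdicCompletion.AsTensorProduct
import Mathlib.RingTheory.Localization.Integral

/-!
Idempotents over the completion are integral over the integral closure.
-/

universe u

open IsLocalRing TensorProduct Polynomial

set_option linter.style.haveILetI false

namespace Groth.Agent.FormalPatch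

/-- An element which is integral on a basic open has an integral multiple. -/
theorem exists_pow_mul_isIntegral {A N Af Nf : Type u} [CommRing A] [CommRing N] [CommRing Af] [CommRing Nf]
    [Algebra A N] [Algebra A Af] [Algebra A Nf] [Algebra Af Nf] [Algebra N Nf] [IsScalarTower A Af Nf]
    [IsScalarTower A N Nf] (f : A) [IsLocalization.Away f Af] [IsLocalization.Away (algebraMap A N f) Nf]
    (n : N) (h : IsIntegral Af (algebraMap N Nf n)) : ∃ k : ℕ, IsIntegral A (f ^ k • n) := by
  obtain ⟨⟨_, a, rfl⟩, ha⟩ := IsIntegral.exists_multiple_integral_of_isLocalization (Submonoid.powers f) _ h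
  have ha' : IsIntegral A (algebraMap N Nf (f ^ a • n)) := by
    rwa [Algebra.algebraMap_eq_smul_one, smul_assoc, ← Algebra.algebraMap_eq_smul_one]
  obtain ⟨P, hP, hP0⟩ := ha'
  let Q := X * P
  have hQ : Q.Monic := monic_X.mul hP
  have hQ0 : algebraMap N Nf (aeval (f ^ a • n) Q) = 0 := by
    rw [← Polynomial.aeval_algebraMap_apply, map_mul, show aeval (algebraMap N Nf (f ^ a • n)) P = 0 from hP0, mul_zero]
  obtain ⟨⟨_, L, rfl⟩, hL⟩ := (IsLocalization.map_eq_zero_iff (Submonoid.powers (algebraMap A N f)) Nf _).1 hQ0
  refine ⟨L + a, Q.scaleRoots (f ^ L), (monic_scaleRoots_iff _).2 hQ, ?_⟩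
  cases subsingleton_or_nontrivial A with
  | inl h0 =>
    haveI : Subsingleton N := (algebraMap A N).codomain_trivial
    exact Subsingleton.elim _ _
  | inr h0 =>
    have h1 : f ^ (L + a) • n = algebraMap A N (f ^ L) * (f ^ a • n) := by
      rw [← Algebra.smul_def, smul_smul, pow_add]
    rw [h1, scaleRoots_eval₂_mul]
    obtain ⟨d, hd⟩ : ∃ d, Q.natDegree = d + 1 := ⟨P.natDegree, by
      show (X * P).natDegree = _
      rw [natDegree_X_mul hP.ne_zero]⟩
    rw [hd, pow_succ, mul_assoc, ← Polynomial.aeval_def, map_pow,
      show (algebraMap A N f) ^ L * aeval (f ^ a • n) Q = 0 from hL, mul_zero]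

section

variable {A : Type u} [CommRing A] [IsLocalRing A] {R N : Type u} [CommRing R] [Algebra A R] [CommRing N]
  [Algebra A N] [Module.FaithfullyFlat A R] [IsNoetherianRing R]
  (hmk : ∀ (T : Type u) [AddCommGroup T] [Module A T], LocCoh.IsPowerTorsion (maximalIdeal A) T →
    Function.Bijective (TensorProduct.mk A R T 1))
  (hQ : ∀ n : N, ∃ k : ℕ, ∀ a ∈ maximalIdeal A ^ k, IsIntegral A (a • n))

omit [IsNoetherianRing R] in
include hQ hmk in
/-- Modulo integral elements, every element over the completion comes from the base. -/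
theorem exists_sub_mem_range (s : R ⊗[A] N) :
    ∃ n : N, ∃ c : R ⊗[A] ↥(integralClosure A N),
      Algebra.TensorProduct.map (AlgHom.id R R) (integralClosure A N).val c = s - (1 : R) ⊗ₜ[A] n := by
  let M := Subalgebra.toSubmodule (integralClosure A N)
  have hT : LocCoh.IsPowerTorsion (maximalIdeal A) (N ⧸ M) := fun z => by
    obtain ⟨n, rfl⟩ := Submodule.Quotient.mk_surjective _ z
    obtain ⟨k, hk⟩ := hQ n
    exact ⟨k, fun a ha => by rw [← Submodule.Quotient.mk_smul, Submodule.Quotient.mk_eq_zero]; exact hk a ha⟩
  obtain ⟨z, hz⟩ := (hmk (N ⧸ M) hT).2 (M.mkQ.lTensor R s)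
  obtain ⟨n, rfl⟩ := Submodule.Quotient.mk_surjective _ z
  have h0 : M.mkQ.lTensor R (s - (1 : R) ⊗ₜ[A] n) = 0 := by
    rw [map_sub, ← hz, LinearMap.lTensor_tmul]
    exact sub_self _
  obtain ⟨c, hc⟩ := (Module.Flat.lTensor_exact R (LinearMap.exact_subtype_mkQ M) _).1 h0
  refine ⟨n, c, ?_⟩
  rw [← hc]
  clear hc
  induction c using TensorProduct.induction_on with
  | zero => simp
  | tmul r x => rfl
  | add a b ha hb => rw [map_add, map_add, ha, hb]

omit [Module.FaithfullyFlat A R] in
/-- Integrality descends along faithfully flat maps. -/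
theorem isIntegral_of_tmul [Module.FaithfullyFlat A R] (n : N) (h : IsIntegral R ((1 : R) ⊗ₜ[A] n)) : IsIntegral A n := by
  let B := Algebra.adjoin A {n}
  let Φ : R ⊗[A] ↥B →ₐ[R] R ⊗[A] N := Algebra.TensorProduct.map (AlgHom.id R R) B.val
  have hinj : Function.Injective Φ := by
    have : Function.Injective (LinearMap.lTensor R B.val.toLinearMap) :=
      Module.Flat.lTensor_preserves_injective_linearMap _ Subtype.val_injective
    intro x y hxy
    refine this ?_
    have e : ∀ z, LinearMap.lTensor R B.val.toLinearMap z = Φ z := fun z => by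
      induction z using TensorProduct.induction_on with
      | zero => simp
      | tmul r x => rfl
      | add a b ha hb => rw [map_add, map_add, ha, hb]
    rw [e, e, hxy]
  let S := Algebra.adjoin R {(1 : R) ⊗ₜ[A] n}
  haveI : Module.Finite R ↥S := Module.Finite.iff_fg.2 h.fg_adjoin_singleton
  have hrange : ∀ z, Φ z ∈ S := fun z => by
    induction z using TensorProduct.induction_on with
    | zero => rw [map_zero]; exact zero_mem _
    | tmul r x =>
      have hB : B ≤ (S.restrictScalars A).comap (Algebra.TensorProduct.includeRight : N →ₐ[A] R ⊗[A] N) := by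
        refine Algebra.adjoin_le ?_
        rintro _ rfl
        exact Algebra.subset_adjoin (Set.mem_singleton _)
      show r ⊗ₜ[A] (x : N) ∈ S
      rw [show r ⊗ₜ[A] (x : N) = r • ((1 : R) ⊗ₜ[A] (x : N)) by rw [smul_tmul', smul_eq_mul, mul_one]]
      exact S.smul_mem (hB x.2) r
    | add a b ha hb => rw [map_add]; exact add_mem ha hb
  haveI : Module.Finite R (R ⊗[A] ↥B) :=
    Module.Finite.of_injective (Φ.codRestrict S hrange).toLinearMap fun x y hxy => hinj (congrArg Subtype.val hxy)
  haveI : Module.Finite A ↥B := Module.Finite.of_finite_tensorProduct_of_faithfullyFlat R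
  exact IsIntegral.of_mem_of_fg B (Module.Finite.iff_fg.1 inferInstance) n (Algebra.subset_adjoin (Set.mem_singleton n))

include hmk hQ in
/-- An idempotent over the completion comes from the integral closure over the completion. -/
theorem exists_idempotent_integral (e : R ⊗[A] N) (he : e * e = e) :
    ∃ c : R ⊗[A] ↥(integralClosure A N), c * c = c ∧
      Algebra.TensorProduct.map (AlgHom.id R R) (integralClosure A N).val c = e := by
  let J := Algebra.TensorProduct.map (AlgHom.id R R) (integralClosure A N).val
  obtain ⟨n, c, hc⟩ := exists_sub_mem_range hmk hQ e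
  have hce : IsIntegral R e := ⟨X ^ 2 - X, monic_X_pow_sub (degree_X_le.trans_lt (by exact_mod_cast Nat.one_lt_two)), by simp [pow_two, he]⟩
  have hcc : IsIntegral R (J c) := by
    haveI : Algebra.IsIntegral A ↥(integralClosure A N) := inferInstance
    exact (Algebra.IsIntegral.isIntegral c).map J
  have hn : IsIntegral A n := isIntegral_of_tmul (R := R) n (by
    rw [show (1 : R) ⊗ₜ[A] n = e - J c by rw [show J c = _ from hc, sub_sub_cancel]]
    exact hce.sub hcc)
  have hJinj : Function.Injective J := by
    have : Function.Injective (LinearMap.lTensor R (integralClosure A N).val.toLinearMap) :=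
      Module.Flat.lTensor_preserves_injective_linearMap _ Subtype.val_injective
    intro x y hxy
    refine this ?_
    have e' : ∀ z, LinearMap.lTensor R (integralClosure A N).val.toLinearMap z = J z := fun z => by
      induction z using TensorProduct.induction_on with
      | zero => simp
      | tmul r x => rfl
      | add a b ha hb => rw [map_add, map_add, ha, hb]
    rw [e', e', hxy]
  refine ⟨(1 : R) ⊗ₜ[A] ⟨n, hn⟩ + c, hJinj ?_, ?_⟩
  · have hJ : J ((1 : R) ⊗ₜ[A] ⟨n, hn⟩ + c) = e := by
      rw [map_add, show J c = _ from hc]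
      exact add_sub_cancel _ _
    rw [map_mul, hJ, he]
  · rw [map_add, show J c = _ from hc]
    exact add_sub_cancel _ _

end

end Groth.Agent.FormalPatch
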