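import Groth.Agent.FormalPatch.Main
import Groth.Agent.FormalPatch.Integral
import Groth.Agent.Hensel.Factor
import Groth.Agent.FComplLib.AdicUnit
import Groth.Agent.Adic7.Lift
import Mathlib.RingTheory.Ideal.GoingDown
import Mathlib.AlgebraicGeometry.PullbackCarrier

/-!
Clopen subsets of a closed part of a finite scheme over the punctured spectrum extend if they extend
over the completion, for henselian pairs.
-/

universe u

open CategoryTheory CategoryTheory.Limits AlgebraicGeometry IsLocalRing TopologicalSpace TensorProduct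

set_option linter.style.haveILetI false

namespace Groth.Agent.FormalPatch

variable (A : Type u) [CommRing A] [IsNoetherianRing A] [IsLocalRing A]

/-- The punctured spectrum is covered by the basic opens of the maximal ideal. -/
theorem puncturedSpec_eq_iSup : FEt.puncturedSpec A = ⨆ f : maximalIdeal A,
    (Spec (CommRingCat.of A)).basicOpen ((Scheme.ΓSpecIso (CommRingCat.of A)).inv f.1) := by
  ext x
  simp only [Opens.coe_iSup, Set.mem_iUnion, SetLike.mem_coe]
  have hbas : ∀ f : A, x ∈ (Spec (CommRingCat.of A)).basicOpen ((Scheme.ΓSpecIso (CommRingCat.of A)).inv f) ↔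
      f ∉ x.asIdeal := fun f => by
    rw [basicOpen_eq_of_affine']
    show (Scheme.ΓSpecIso (CommRingCat.of A)).hom ((Scheme.ΓSpecIso (CommRingCat.of A)).inv f) ∉ x.asIdeal ↔ _
    rw [show (Scheme.ΓSpecIso (CommRingCat.of A)).hom ((Scheme.ΓSpecIso (CommRingCat.of A)).inv f) = f from
      congr($((Scheme.ΓSpecIso (CommRingCat.of A)).inv_hom_id).hom f)]
  constructor
  · intro hx
    by_contra h
    simp only [not_exists, hbas, not_not] at h
    refine hx (Set.mem_singleton_iff.2 (PrimeSpectrum.ext ?_))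
    exact ((maximalIdeal.isMaximal A).eq_of_le x.isPrime.ne_top fun f hf => h ⟨f, hf⟩).symm
  · rintro ⟨f, hf⟩ hc
    rw [hbas, Set.mem_singleton_iff.1 hc] at hf
    exact hf f.2

/-- The map to the spectrum of an algebra of functions. -/
theorem toSpec_comp {X : Scheme.{u}} {B₀ B : CommRingCat.{u}} (g : X ⟶ Spec B₀) (p : B₀ ⟶ B) (π : B ⟶ Γ(X, ⊤))
    (hπ : p ≫ π = (Scheme.ΓSpecIso B₀).inv ≫ g.appTop) : (X.toSpecΓ ≫ Spec.map π) ≫ Spec.map p = g := by
  rw [Category.assoc, ← Spec.map_comp, hπ, Spec.map_comp, ← Category.assoc, ← Scheme.toSpecΓ_naturality,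
    Category.assoc, toSpecΓ_SpecMap_ΓSpecIso_inv, Category.comp_id]

set_option backward.isDefEq.respectTransparency false in
theorem exists_isClopen_of_completion (f : A) (hf : f ∈ maximalIdeal A) [HenselianRing A (Ideal.span {f})]
    {W : Scheme.{u}} (v : W ⟶ (FEt.puncturedSpec A : Scheme.{u})) [IsFinite v] (D₀ : Set W)
    (hD : D₀ ⊆ (v ≫ (FEt.puncturedSpec A).ι).base ⁻¹' PrimeSpectrum.zeroLocus {f})
    (hext : ∃ Gh : Set ↥(pullback (v ≫ (FEt.puncturedSpec A).ι) (specCompl A)), IsClopen Gh ∧ ∀ z,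
      (pullback.fst (v ≫ (FEt.puncturedSpec A).ι) (specCompl A)).base z ∈
        (v ≫ (FEt.puncturedSpec A).ι).base ⁻¹' PrimeSpectrum.zeroLocus {f} →
      (z ∈ Gh ↔ (pullback.fst (v ≫ (FEt.puncturedSpec A).ι) (specCompl A)).base z ∈ D₀)) :
    ∃ G : Set W, IsClopen G ∧ G ∩ (v ≫ (FEt.puncturedSpec A).ι).base ⁻¹' PrimeSpectrum.zeroLocus {f} = D₀ := by
  classical
  obtain ⟨Gh, hGh, hGhD⟩ := hext
  let U := FEt.puncturedSpec A
  let ρ := specCompl A
  let R := AdicCompletion (maximalIdeal A) A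
  haveI : CompactSpace (U : Scheme.{u}) :=
    isCompact_iff_compactSpace.1 (NoetherianSpace.isCompact (U : Set (Spec (CommRingCat.of A))))
  haveI : CompactSpace W := QuasiCompact.compactSpace_of_compactSpace v
  haveI : QuasiSeparatedSpace W := quasiSeparatedSpace_of_quasiSeparated v
  let w : W ⟶ Spec (CommRingCat.of A) := v ≫ U.ι
  let P := pullback w ρ
  haveI : Module.Flat A R := AdicCompletion.flat_of_isNoetherian _
  haveI : IsLocalHom (algebraMap A R) := inferInstance
  haveI : Module.FaithfullyFlat A R := Module.FaithfullyFlat.of_flat_of_isLocalHom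
  haveI : Flat ρ := by
    rw [HasRingHomProperty.Spec_iff (P := @Flat)]
    exact RingHom.flat_algebraMap_iff.mpr inferInstance
  haveI : IsNoetherianRing R := FComplLib.isNoetherianRing_adicCompletion _
  haveI : Surjective ρ := ⟨PrimeSpectrum.comap_surjective_of_faithfullyFlat⟩
  haveI : QuasiCompact w := inferInstance
  haveI : QuasiSeparated w := inferInstance
  let SA := Scheme.ΓSpecIso (CommRingCat.of A)
  let SR := Scheme.ΓSpecIso (CommRingCat.of R)
  let N := Γ(W, ⊤)
  letI : Algebra A N := (SA.inv ≫ w.appTop).hom.toAlgebra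
  letI : Algebra R Γ(P, ⊤) := (SR.inv ≫ (pullback.snd w ρ).appTop).hom.toAlgebra
  letI : Algebra N Γ(P, ⊤) := (pullback.fst w ρ).appTop.hom.toAlgebra
  letI : Algebra A Γ(P, ⊤) := ((algebraMap R Γ(P, ⊤)).comp (algebraMap A R)).toAlgebra
  haveI : IsScalarTower A R Γ(P, ⊤) := IsScalarTower.of_algebraMap_eq fun _ => rfl
  have hpo := HensCouple7.isPushout_appTop (IsPullback.of_hasPullback w ρ)
  have hpo' : IsPushout (CommRingCat.ofHom (algebraMap A N)) (CommRingCat.ofHom (algebraMap A R))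
      (CommRingCat.ofHom (algebraMap N Γ(P, ⊤))) (CommRingCat.ofHom (algebraMap R Γ(P, ⊤))) := by
    refine hpo.of_iso SA (Iso.refl _) SR (Iso.refl _) ?_ ?_ ?_ ?_
    · show _ = SA.hom ≫ SA.inv ≫ w.appTop
      rw [Iso.hom_inv_id_assoc, Iso.refl_hom, Category.comp_id]
    · exact Scheme.ΓSpecIso_naturality _
    · rw [Iso.refl_hom, Category.comp_id]; rfl
    · show _ = SR.hom ≫ SR.inv ≫ (pullback.snd w ρ).appTop
      rw [Iso.hom_inv_id_assoc, Iso.refl_hom, Category.comp_id]
  haveI : IsScalarTower A N Γ(P, ⊤) := IsScalarTower.of_algebraMap_eq fun a => (congr($(hpo'.w).hom a)).symm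
  haveI : Algebra.IsPushout A R N Γ(P, ⊤) := CommRingCat.isPushout_iff_isPushout.1 hpo'.flip
  let Θ : R ⊗[A] N ≃ₐ[R] Γ(P, ⊤) := Algebra.IsPushout.equiv A R N Γ(P, ⊤)
  -- functions on `W` are integral up to torsion
  have hloc : ∀ g ∈ maximalIdeal A, ∀ n : N, ∃ k : ℕ, IsIntegral A (g ^ k • n) := by
    intro g hg n
    let D := (Spec (CommRingCat.of A)).basicOpen (SA.inv g)
    have hDU : D ≤ U :=
      (le_iSup (fun f : maximalIdeal A => (Spec (CommRingCat.of A)).basicOpen (SA.inv f.1)) ⟨g, hg⟩).trans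
        (puncturedSpec_eq_iSup A).ge
    have hpre : w ⁻¹ᵁ D = W.basicOpen (algebraMap A N g) := Scheme.preimage_basicOpen_top w _
    have hfin : (w.app D).hom.Finite := by
      have h1 : IsAffineOpen (U.ι ⁻¹ᵁ D) := IsAffineOpen.preimage_of_isOpenImmersion
        ((isAffineOpen_top _).basicOpen _) U.ι (by rwa [Scheme.Opens.opensRange_ι])
      haveI := U.ι.isIso_app D (by rwa [Scheme.Opens.opensRange_ι])
      rw [show w.app D = U.ι.app D ≫ v.app (U.ι ⁻¹ᵁ D) from Scheme.Hom.comp_app v U.ι D, CommRingCat.hom_comp]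
      exact (v.finite_app _ h1).comp
        (RingHom.Finite.of_surjective _ (ConcreteCategory.bijective_of_isIso (U.ι.app D)).2)
    let Af := Γ(Spec (CommRingCat.of A), D)
    let Nf := Γ(W, W.basicOpen (algebraMap A N g))
    letI : Algebra A Af := (SA.inv ≫ (Spec (CommRingCat.of A)).presheaf.map (homOfLE le_top).op).hom.toAlgebra
    haveI : IsLocalization.Away g Af := by
      letI := ((Spec (CommRingCat.of A)).presheaf.map (homOfLE (le_top : D ≤ ⊤)).op).hom.toAlgebra
      have h := (isAffineOpen_top (Spec (CommRingCat.of A))).isLocalization_basicOpen (SA.inv g)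
      have := IsLocalization.isLocalization_of_base_ringEquiv (Submonoid.powers (SA.inv g)) Af SA.commRingCatIsoToRingEquiv
      rw [Submonoid.map_powers] at this
      have hg' : SA.commRingCatIsoToRingEquiv (SA.inv g) = g := congr($(SA.inv_hom_id).hom g)
      convert this using 2
      · exact hg'.symm
      · rfl
    letI : Algebra N Nf := (W.presheaf.map (homOfLE le_top).op).hom.toAlgebra
    haveI : IsLocalization.Away (algebraMap A N g) Nf :=
      isLocalization_basicOpen_of_qcqs isCompact_univ isQuasiSeparated_univ _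
    letI : Algebra Af Nf := (w.app D ≫ W.presheaf.map (homOfLE hpre.ge).op).hom.toAlgebra
    letI : Algebra A Nf := ((algebraMap N Nf).comp (algebraMap A N)).toAlgebra
    haveI : IsScalarTower A N Nf := IsScalarTower.of_algebraMap_eq fun _ => rfl
    haveI : IsScalarTower A Af Nf := IsScalarTower.of_algebraMap_eq fun a => by
      have h : (Spec (CommRingCat.of A)).presheaf.map (homOfLE (le_top : D ≤ ⊤)).op ≫ w.app D ≫
          W.presheaf.map (homOfLE hpre.ge).op = w.appTop ≫ W.presheaf.map (homOfLE le_top).op := by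
        rw [Scheme.Hom.naturality_assoc, ← W.presheaf.map_comp]
        rfl
      exact (congr($(h).hom (SA.inv a))).symm
    haveI : Module.Finite Af Nf := by
      haveI : IsIso (W.presheaf.map (homOfLE hpre.ge).op) := by
        have : IsIso (homOfLE hpre.ge) := ⟨homOfLE hpre.le, rfl, rfl⟩
        infer_instance
      exact (RingHom.Finite.of_surjective _
        (ConcreteCategory.bijective_of_isIso (W.presheaf.map (homOfLE hpre.ge).op)).2).comp hfin
    exact exists_pow_mul_isIntegral g n (IsIntegral.of_finite Af (algebraMap N Nf n))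
  let C := integralClosure A N
  have hQ : ∀ n : N, ∃ k : ℕ, ∀ a ∈ maximalIdeal A ^ k, IsIntegral A (a • n) := fun n =>
    exists_pow_smul A (Subalgebra.toSubmodule C) n fun g hg => hloc g hg n
  have hmk : ∀ (T : Type u) [AddCommGroup T] [Module A T], LocCoh.IsPowerTorsion (maximalIdeal A) T →
      Function.Bijective (TensorProduct.mk A R T 1) := fun T _ _ hT => LC.mk_one_bijective_of_powerTorsion T hT
  obtain ⟨εh, hεh, hεhG⟩ := HensCouple7.exists_idempotent_of_isClopen hGh
  obtain ⟨ch, hch, hchε⟩ := exists_idempotent_integral hmk hQ (Θ.symm εh) (by rw [← map_mul, hεh])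
  -- the open immersion into the spectrum of the integral closure
  let B := CommRingCat.of ↥C
  let p : CommRingCat.of A ⟶ B := CommRingCat.ofHom (algebraMap A ↥C)
  let π₂ : B ⟶ Γ(W, ⊤) := CommRingCat.ofHom C.val.toRingHom
  have hp₂ : p ≫ π₂ = SA.inv ≫ w.appTop := by
    ext a; rfl
  let t : W ⟶ Spec B := W.toSpecΓ ≫ Spec.map π₂
  have htw : t ≫ Spec.map p = w := toSpec_comp w p π₂ hp₂
  have htapp : ∀ x, t.appTop x = π₂ ((Scheme.ΓSpecIso B).hom x) := by
    intro x
    have h : t.appTop = (Scheme.ΓSpecIso B).hom ≫ π₂ := by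
      rw [Scheme.Hom.comp_appTop, Scheme.toSpecΓ_appTop, Scheme.ΓSpecIso_naturality]
    exact congr($(h).hom x)
  let fB : maximalIdeal A → Γ(Spec B, ⊤) := fun g => (Scheme.ΓSpecIso B).inv (p g.1)
  have hfB : ∀ g : maximalIdeal A, (Scheme.ΓSpecIso B).hom (fB g) = p g.1 := fun g =>
    congr($((Scheme.ΓSpecIso B).inv_hom_id).hom (p g.1))
  have hDB : ∀ g : maximalIdeal A, (Spec B).basicOpen (fB g) =
      Spec.map p ⁻¹ᵁ (Spec (CommRingCat.of A)).basicOpen (SA.inv g.1) := by
    intro g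
    rw [Scheme.preimage_basicOpen_top]
    refine congrArg _ ?_
    exact congr($(Scheme.ΓSpecIso_inv_naturality p).hom g.1)
  have hcov : Spec.map p ⁻¹ᵁ U = ⨆ g, (Spec B).basicOpen (fB g) := by
    rw [show U = _ from puncturedSpec_eq_iSup A, Scheme.Hom.preimage_iSup]
    exact iSup_congr fun g => (hDB g).symm
  obtain ⟨ht1, ht2⟩ := isOpenImmersion_of_basicOpens t (Spec.map p ⁻¹ᵁ U) (by
      rw [← Scheme.Hom.comp_preimage, htw]
      ext x
      simp only [Opens.coe_top, Set.mem_univ, iff_true]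
      exact (v.base x).2) fB hcov (fun g => by
      rw [hDB, ← Scheme.Hom.comp_preimage, htw, Scheme.Hom.comp_preimage]
      refine (IsAffineOpen.preimage_of_isOpenImmersion ((isAffineOpen_top _).basicOpen _) U.ι ?_).preimage v
      rw [Scheme.Opens.opensRange_ι]
      exact (le_iSup (fun f : maximalIdeal A => (Spec (CommRingCat.of A)).basicOpen (SA.inv f.1)) g).trans
        (puncturedSpec_eq_iSup A).ge) (fun g => by
      refine isIso_appLE_basicOpen t _ (fun x hx => ⟨0, ?_⟩) fun s => ?_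
      · rw [htapp] at hx
        have : (Scheme.ΓSpecIso B).hom x = 0 := Subtype.ext hx
        rw [pow_zero, one_mul]
        exact (ConcreteCategory.bijective_of_isIso (Scheme.ΓSpecIso B).hom).1 (this.trans (map_zero _).symm)
      · obtain ⟨k, hk⟩ := hloc g.1 g.2 s
        refine ⟨k, (Scheme.ΓSpecIso B).inv ⟨g.1 ^ k • s, hk⟩, ?_⟩
        rw [htapp, htapp, show (Scheme.ΓSpecIso B).hom ((Scheme.ΓSpecIso B).inv ⟨g.1 ^ k • s, hk⟩) = _ from
          congr($((Scheme.ΓSpecIso B).inv_hom_id).hom _), hfB]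
        show g.1 ^ k • s = _
        rw [Algebra.smul_def, map_pow]
        rfl)
  haveI := ht1
  -- the spectrum of the integral closure over the completion
  let Bh := CommRingCat.of (R ⊗[A] ↥C)
  letI : Algebra ↥C (R ⊗[A] ↥C) := Algebra.TensorProduct.rightAlgebra
  haveI : Module.FaithfullyFlat ↥C (R ⊗[A] ↥C) :=
    Module.FaithfullyFlat.of_linearEquiv ↥C (↥C ⊗[A] R) (Algebra.TensorProduct.commRight A ↥C R).symm.toLinearEquiv
  let ir : B ⟶ Bh := CommRingCat.ofHom (algebraMap ↥C (R ⊗[A] ↥C))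
  let il : CommRingCat.of R ⟶ Bh := CommRingCat.ofHom (algebraMap R (R ⊗[A] ↥C))
  let J := Algebra.TensorProduct.map (AlgHom.id R R) C.val
  let π₃ : Bh ⟶ Γ(P, ⊤) := CommRingCat.ofHom (Θ.toAlgHom.comp J).toRingHom
  let π : PrimeSpectrum (R ⊗[A] ↥C) → PrimeSpectrum ↥C := PrimeSpectrum.comap (algebraMap ↥C (R ⊗[A] ↥C))
  have hπs : Function.Surjective π := PrimeSpectrum.comap_surjective_of_faithfullyFlat
  have hπq : Topology.IsQuotientMap π := PrimeSpectrum.isQuotientMap_of_generalizingMap hπs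
    (Algebra.HasGoingDown.iff_generalizingMap_primeSpectrumComap.1 inferInstance)
  let m : P ⟶ Spec Bh := P.toSpecΓ ≫ Spec.map π₃
  have hm₁ : m ≫ Spec.map il = pullback.snd w ρ := by
    refine toSpec_comp _ il π₃ ?_
    ext r
    exact (Θ.toAlgHom.comp J).commutes r
  have hm₂ : m ≫ Spec.map ir = pullback.fst w ρ ≫ t := by
    have h : ir ≫ π₃ = π₂ ≫ (pullback.fst w ρ).appTop := by
      ext c
      show Θ (J ((1 : R) ⊗ₜ[A] c)) = algebraMap N Γ(P, ⊤) c.1
      show Θ ((1 : R) ⊗ₜ[A] c.1) = algebraMap N Γ(P, ⊤) c.1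
      rw [Algebra.IsPushout.equiv_tmul, map_one, one_mul]
    rw [Category.assoc, ← Spec.map_comp, h, Spec.map_comp, ← Category.assoc, ← Scheme.toSpecΓ_naturality,
      Category.assoc]
  have hright : IsPullback (Spec.map ir) (Spec.map il) (Spec.map p) ρ :=
    isPullback_SpecMap_of_isPushout _ _ _ _ (CommRingCat.isPushout_tensorProduct A R ↥C).flip
  have hleft : IsPullback m (pullback.fst w ρ) (Spec.map ir) t := by
    refine (IsPullback.of_bot ?_ hm₂.symm hright).flip
    rw [htw, hm₁]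
    exact IsPullback.of_hasPullback w ρ
  have hrange : ∀ q : PrimeSpectrum (R ⊗[A] ↥C), π q ∈ Set.range t.base → ∃ z : P, m.base z = q := by
    rintro q ⟨x, hx⟩
    obtain ⟨y, hy⟩ : q ∈ Set.range (pullback.fst (Spec.map ir) t).base := by
      rw [Scheme.Pullback.range_fst]
      exact ⟨x, hx⟩
    refine ⟨hleft.isoPullback.inv.base y, ?_⟩
    rw [← Scheme.Hom.comp_apply, IsPullback.isoPullback_inv_fst]
    exact hy
  have hπm : ∀ z : P, π (m.base z) = t.base ((pullback.fst w ρ).base z) := fun z => by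
    rw [← Scheme.Hom.comp_apply, ← hm₂, Scheme.Hom.comp_apply]
    rfl
  have hGm : ∀ z : P, m.base z ∈ PrimeSpectrum.basicOpen ch ↔ z ∈ Gh := by
    intro z
    have h1 : m ⁻¹ᵁ PrimeSpectrum.basicOpen ch = P.basicOpen (π₃ ch) := by
      show (P.toSpecΓ ≫ Spec.map π₃) ⁻¹ᵁ _ = _
      rw [Scheme.Hom.comp_preimage]
      exact Scheme.toSpecΓ_preimage_basicOpen P (π₃ ch)
    have h2 : π₃ ch = εh := by
      show Θ (J ch) = εh
      rw [show J ch = Θ.symm εh from hchε, AlgEquiv.apply_symm_apply]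
    rw [← hεhG, ← h2, ← h1]
    rfl
  -- the closed part
  let Z : Set (PrimeSpectrum ↥C) := PrimeSpectrum.zeroLocus {algebraMap A ↥C f}
  have hZ : IsClosed Z := PrimeSpectrum.isClosed_zeroLocus _
  have hZW : ∀ x : W, t.base x ∈ Z ↔ x ∈ w.base ⁻¹' PrimeSpectrum.zeroLocus {f} := fun x => by
    rw [Set.mem_preimage, ← htw]
    show _ ↔ PrimeSpectrum.comap (algebraMap A ↥C) (t.base x) ∈ PrimeSpectrum.zeroLocus {f}
    exact ⟨fun h => Set.singleton_subset_iff.2 (show algebraMap A ↥C f ∈ (t.base x).asIdeal from h (Set.mem_singleton _)),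
      fun h => Set.singleton_subset_iff.2 (show f ∈ (PrimeSpectrum.comap (algebraMap A ↥C) (t.base x)).asIdeal from h (Set.mem_singleton _))⟩
  let Ep : Set (PrimeSpectrum (R ⊗[A] ↥C)) := π ⁻¹' Z ∩ PrimeSpectrum.basicOpen ch
  let En : Set (PrimeSpectrum (R ⊗[A] ↥C)) := π ⁻¹' Z ∩ (PrimeSpectrum.basicOpen ch : Set (PrimeSpectrum (R ⊗[A] ↥C)))ᶜ
  have hbc : IsClopen (PrimeSpectrum.basicOpen ch : Set (PrimeSpectrum (R ⊗[A] ↥C))) :=
    PrimeSpectrum.isClopen_iff.2 ⟨ch, hch, rfl⟩
  have hEp : IsClosed Ep := (hZ.preimage (PrimeSpectrum.continuous_comap _)).inter hbc.1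
  have hEn : IsClosed En := (hZ.preimage (PrimeSpectrum.continuous_comap _)).inter hbc.compl.1
  have hsat : ∀ q q', π q = π q' → π q ∈ Z → q ∈ PrimeSpectrum.basicOpen ch → q' ∈ PrimeSpectrum.basicOpen ch := by
    intro q q' he hqZ hq
    by_cases hr : π q ∈ Set.range t.base
    · obtain ⟨z, rfl⟩ := hrange q hr
      obtain ⟨z', rfl⟩ := hrange q' (he ▸ hr)
      rw [hπm, hπm] at he
      have hx := t.isOpenEmbedding.injective he
      rw [hGm] at hq ⊢
      have hmem : (pullback.fst w ρ).base z ∈ w.base ⁻¹' PrimeSpectrum.zeroLocus {f} :=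
        (hZW _).1 (hπm z ▸ hqZ)
      exact (hGhD z' (hx ▸ hmem)).2 (hx ▸ (hGhD z hmem).1 hq)
    · -- both points lie over the closed point
      have hclosed : ∀ q : PrimeSpectrum (R ⊗[A] ↥C), π q ∉ Set.range t.base →
          (maximalIdeal R).map (algebraMap R (R ⊗[A] ↥C)) ≤ q.asIdeal := by
        intro q hq
        rw [show maximalIdeal R = (maximalIdeal A).map (algebraMap A R) from AdicCompletion.maximalIdeal_eq_map,
          Ideal.map_map, Ideal.map_le_iff_le_comap]
        have h1 : PrimeSpectrum.comap (algebraMap A ↥C) (π q) = closedPoint A := by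
          by_contra h
          exact hq (ht2.symm.subset h)
        intro a ha
        have h2 : algebraMap A ↥C a ∈ (π q).asIdeal := by
          have : a ∈ (PrimeSpectrum.comap (algebraMap A ↥C) (π q)).asIdeal := by rw [h1]; exact ha
          exact this
        show algebraMap R (R ⊗[A] ↥C) (algebraMap A R a) ∈ q.asIdeal
        rw [show algebraMap R (R ⊗[A] ↥C) (algebraMap A R a) = algebraMap ↥C (R ⊗[A] ↥C) (algebraMap A ↥C a) by
          show algebraMap A R a ⊗ₜ[A] (1 : ↥C) = (1 : R) ⊗ₜ[A] algebraMap A ↥C a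
          rw [Algebra.algebraMap_eq_smul_one, Algebra.algebraMap_eq_smul_one, smul_tmul]]
        exact h2
      have happ : ∀ x : R ⊗[A] ↥C, ∃ b : ↥C,
          x - algebraMap ↥C (R ⊗[A] ↥C) b ∈ (maximalIdeal R).map (algebraMap R (R ⊗[A] ↥C)) := by
        intro x
        induction x using TensorProduct.induction_on with
        | zero => exact ⟨0, by simp⟩
        | tmul r b =>
          obtain ⟨a, ha⟩ := Adic7.exists_sub_algebraMap_mem (maximalIdeal A) (IsNoetherian.noetherian _) r 1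
          rw [pow_one, ← AdicCompletion.maximalIdeal_eq_map] at ha
          refine ⟨algebraMap A ↥C a * b, ?_⟩
          have : r ⊗ₜ[A] b - algebraMap ↥C (R ⊗[A] ↥C) (algebraMap A ↥C a * b) =
              algebraMap R (R ⊗[A] ↥C) (r - algebraMap A R a) * algebraMap ↥C (R ⊗[A] ↥C) b := by
            show r ⊗ₜ[A] b - (1 : R) ⊗ₜ[A] (algebraMap A ↥C a * b) = (r - algebraMap A R a) ⊗ₜ[A] (1 : ↥C) * (1 : R) ⊗ₜ[A] b
            rw [Algebra.TensorProduct.tmul_mul_tmul, mul_one, one_mul, sub_tmul, ← Algebra.smul_def,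
              Algebra.algebraMap_eq_smul_one, smul_tmul]
          rw [this]
          exact Ideal.mul_mem_right _ _ (Ideal.mem_map_of_mem _ ha)
        | add x y hx' hy' =>
          obtain ⟨b, hb⟩ := hx'
          obtain ⟨b', hb'⟩ := hy'
          exact ⟨b + b', by rw [map_add, add_sub_add_comm]; exact add_mem hb hb'⟩
      intro hq'
      apply hq
      obtain ⟨b, hb⟩ := happ ch
      have h2 : algebraMap ↥C (R ⊗[A] ↥C) b ∈ q'.asIdeal := by
        have := sub_mem (show ch ∈ q'.asIdeal from hq') (hclosed q' (he ▸ hr) hb)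
        rwa [sub_sub_cancel] at this
      have h3 : algebraMap ↥C (R ⊗[A] ↥C) b ∈ q.asIdeal :=
        (SetLike.ext_iff.1 (congrArg PrimeSpectrum.asIdeal he) b).2 h2
      have := add_mem h3 (hclosed q hr hb)
      rwa [add_sub_cancel] at this
  let E : Set (PrimeSpectrum ↥C) := π '' Ep
  have hEpre : π ⁻¹' E = Ep := by
    refine Set.Subset.antisymm ?_ (Set.subset_preimage_image π Ep)
    rintro q ⟨q', ⟨hq'Z, hq'⟩, he⟩
    exact ⟨show π q ∈ Z from he ▸ hq'Z, hsat q' q he hq'Z hq'⟩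
  have hEnpre : π ⁻¹' (π '' En) = En := by
    refine Set.Subset.antisymm ?_ (Set.subset_preimage_image π En)
    rintro q ⟨q', ⟨hq'Z, hq'⟩, he⟩
    exact ⟨show π q ∈ Z from he ▸ hq'Z, fun h => hq' (hsat q q' he.symm (he ▸ hq'Z) h)⟩
  have hEc : IsClosed E := by rw [← hπq.isClosed_preimage, hEpre]; exact hEp
  have hEnc : IsClosed (π '' En) := by rw [← hπq.isClosed_preimage, hEnpre]; exact hEn
  let mkf := Ideal.Quotient.mk ((Ideal.span {f}).map (algebraMap A ↥C))
  let K := PrimeSpectrum.comap mkf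
  have hKZ : Set.range K = Z := by
    rw [_root_.range_comap_of_surjective _ _ Ideal.Quotient.mk_surjective, Ideal.mk_ker, Ideal.map_span,
      Set.image_singleton, PrimeSpectrum.zeroLocus_span]
  have hKclop : IsClopen (K ⁻¹' E) := by
    refine ⟨hEc.preimage (PrimeSpectrum.continuous_comap _), ?_⟩
    rw [← isClosed_compl_iff, show (K ⁻¹' E)ᶜ = K ⁻¹' (π '' En) from ?_]
    · exact hEnc.preimage (PrimeSpectrum.continuous_comap _)
    ext y
    obtain ⟨q, hq⟩ := hπs (K y)
    have hqZ : π q ∈ Z := hq ▸ hKZ.subset ⟨y, rfl⟩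
    constructor
    · intro h
      refine ⟨q, ⟨hqZ, fun hc => h ?_⟩, hq⟩
      exact ⟨q, ⟨hqZ, hc⟩, hq⟩
    · rintro ⟨q₁, ⟨hq₁Z, hq₁⟩, hq₁e⟩ ⟨q₂, ⟨hq₂Z, hq₂⟩, hq₂e⟩
      exact hq₁ (hsat q₂ q₁ (hq₂e.trans hq₁e.symm) hq₂Z hq₂)
  obtain ⟨eb, heb, hebK⟩ := PrimeSpectrum.isClopen_iff.1 hKclop
  obtain ⟨e, he, heeb⟩ := (Hensel.bijOn_idempotents_of_isIntegral (Ideal.span {f}) ↥C).surjOn heb
  refine ⟨t.base ⁻¹' (PrimeSpectrum.basicOpen e : Set (PrimeSpectrum ↥C)),
    (PrimeSpectrum.isClopen_iff.2 ⟨e, he, rfl⟩).preimage t.continuous, ?_⟩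
  ext x
  have key : x ∈ w.base ⁻¹' PrimeSpectrum.zeroLocus {f} → (t.base x ∈ PrimeSpectrum.basicOpen e ↔ x ∈ D₀) := by
    intro hx
    obtain ⟨y, hy⟩ := hKZ.symm.subset ((hZW x).2 hx)
    obtain ⟨z, hz⟩ := (pullback.fst w ρ).surjective x
    rw [← hy]
    show e ∉ (K y).asIdeal ↔ _
    rw [show e ∈ (K y).asIdeal ↔ mkf e ∈ y.asIdeal from Iff.rfl, show mkf e = eb from heeb]
    rw [show eb ∉ y.asIdeal ↔ y ∈ K ⁻¹' E by rw [hebK]; rfl, Set.mem_preimage, hy]
    have hzx : π (m.base z) = t.base x := by rw [hπm, hz]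
    constructor
    · intro hE
      have := (hEpre.subset (show π (m.base z) ∈ E by rw [hzx]; exact hE)).2
      exact hz ▸ (hGhD z (hz.symm ▸ hx)).1 ((hGm z).1 this)
    · intro hD₀
      exact ⟨m.base z, ⟨show π (m.base z) ∈ Z from hzx.symm ▸ (hZW x).2 hx,
        (hGm z).2 ((hGhD z (hz.symm ▸ hx)).2 (hz.symm ▸ hD₀))⟩, hzx⟩
  exact ⟨fun ⟨h1, h2⟩ => (key h2).1 h1, fun h => ⟨(key (hD h)).2 h, hD h⟩⟩

end Groth.Agent.FormalPatch
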