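import Groth.Agent.FormalPatch.HenselClopen
import Groth.Agent.FormalPatch.FullClopen
import Groth.Agent.Pi1X.FEtFull

/-!
Restriction to a hypersurface of the punctured spectrum, through the completion.
-/

universe u

open CategoryTheory CategoryTheory.Limits AlgebraicGeometry IsLocalRing TopologicalSpace

set_option linter.style.haveILetI false

namespace Groth.Agent.FormalPatch

set_option backward.isDefEq.respectTransparency false in
theorem restrict_hypersurface (A : Type u) [CommRing A] [IsNoetherianRing A] [IsLocalRing A] (f : A)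
    (hf : f ∈ maximalIdeal A) [HenselianRing A (Ideal.span {f})]
    [(FEt.restrict (pullback.fst (pullback.fst (FEt.puncturedSpec A).ι (specCompl A))
      (pullback.fst (FEt.puncturedSpec A).ι (Spec.map (CommRingCat.ofHom (Ideal.Quotient.mk (Ideal.span {f}))))))).Full]
    [(FEt.restrict (pullback.fst (pullback.fst (FEt.puncturedSpec A).ι (specCompl A))
      (pullback.fst (FEt.puncturedSpec A).ι (Spec.map (CommRingCat.ofHom (Ideal.Quotient.mk (Ideal.span {f}))))))).Faithful] :
    (FEt.restrict (pullback.fst (FEt.puncturedSpec A).ι (Spec.map (CommRingCat.ofHom (Ideal.Quotient.mk (Ideal.span {f})))))).Full ∧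
    (FEt.restrict (pullback.fst (FEt.puncturedSpec A).ι (Spec.map (CommRingCat.ofHom (Ideal.Quotient.mk (Ideal.span {f})))))).Faithful := by
  let U := FEt.puncturedSpec A
  let σ := Spec.map (CommRingCat.ofHom (Ideal.Quotient.mk (Ideal.span {f})))
  let g₁ := pullback.fst U.ι (specCompl A)
  let g₂ := pullback.fst U.ι σ
  haveI : IsClosedImmersion σ := IsClosedImmersion.spec_of_surjective _ Ideal.Quotient.mk_surjective
  haveI : IsClosedImmersion g₂ := MorphismProperty.pullback_fst _ _ ‹IsClosedImmersion σ›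
  haveI : Surjective (specCompl A) := by
    haveI : Module.Flat A (AdicCompletion (maximalIdeal A) A) := AdicCompletion.flat_of_isNoetherian _
    haveI : Module.FaithfullyFlat A (AdicCompletion (maximalIdeal A) A) := Module.FaithfullyFlat.of_flat_of_isLocalHom
    exact ⟨PrimeSpectrum.comap_surjective_of_faithfullyFlat⟩
  haveI : Surjective g₁ := MorphismProperty.pullback_fst _ _ ‹Surjective (specCompl A)›
  have hV : PrimeSpectrum.zeroLocus {f} = Set.range σ.base := by
    rw [show Set.range σ.base = Set.range (PrimeSpectrum.comap (Ideal.Quotient.mk (Ideal.span {f}))) from rfl,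
      _root_.range_comap_of_surjective _ _ Ideal.Quotient.mk_surjective, Ideal.mk_ker, PrimeSpectrum.zeroLocus_span]
  have hC : ∀ O : Set (U : Scheme.{u}), IsClopen O → O.Nonempty → (O ∩ Set.range g₂.base).Nonempty := by
    intro O hO hne
    by_contra h
    have hO' := eq_empty_of_faithful (pullback.snd U.ι (specCompl A) ≫ specCompl A) (pullback.fst g₁ g₂)
      (O := g₁.base ⁻¹' O) (hO.preimage g₁.continuous) (Set.disjoint_left.2 fun x hx hxr => by
        rw [Scheme.Pullback.range_fst] at hxr
        exact h ⟨g₁.base x, hx, hxr⟩)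
    obtain ⟨x, hx⟩ := hne
    obtain ⟨y, rfl⟩ := g₁.surjective x
    exact Set.eq_empty_iff_forall_notMem.1 hO' y hx
  refine ⟨Pi1X.restrict_full g₂ hC fun W C hWC => ?_, Pi1X.restrict_faithful g₂ hC⟩
  haveI : IsFinite W.hom := W.prop.1
  let v : W.left ⟶ (U : Scheme.{u}) := W.hom
  let Wh : FEt.Cat (pullback U.ι (specCompl A)) := (FEt.restrict g₁).obj W
  let tr : pullback Wh.hom (pullback.fst g₁ g₂) ⟶ pullback W.hom g₂ :=
    pullback.lift (pullback.fst Wh.hom (pullback.fst g₁ g₂) ≫ pullback.fst v g₁)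
      (pullback.snd Wh.hom (pullback.fst g₁ g₂) ≫ pullback.snd g₁ g₂) (by
        rw [Category.assoc, Category.assoc, pullback.condition, ← pullback.condition (f := g₁) (g := g₂)]
        rw [← Category.assoc, ← Category.assoc]
        exact congrArg (· ≫ g₁) pullback.condition)
  obtain ⟨Gh, hGh, hGhC⟩ := exists_isClopen_of_full (pullback.snd U.ι (specCompl A) ≫ specCompl A)
    (pullback.fst g₁ g₂) Wh (tr.base ⁻¹' C) (hWC.preimage tr.continuous)
  let j₂ := pullback.fst W.hom g₂
  haveI : IsClosedImmersion j₂ := MorphismProperty.pullback_fst _ _ ‹IsClosedImmersion g₂›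
  have hj₂ : Function.Injective j₂.base := j₂.isClosedEmbedding.injective
  let r := pullbackRightPullbackFstIso U.ι (specCompl A) v
  have hZ : ∀ x : W.left, x ∈ (v ≫ U.ι).base ⁻¹' PrimeSpectrum.zeroLocus {f} ↔ x ∈ Set.range j₂.base := fun x => by
    rw [Scheme.Pullback.range_fst, Set.mem_preimage, Set.mem_preimage, Scheme.Pullback.range_fst, Set.mem_preimage, hV,
      Scheme.Hom.comp_apply]
    rfl
  have hext : ∀ z, (pullback.fst (v ≫ U.ι) (specCompl A)).base z ∈ (v ≫ U.ι).base ⁻¹' PrimeSpectrum.zeroLocus {f} →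
      (z ∈ r.inv.base ⁻¹' Gh ↔ (pullback.fst (v ≫ U.ι) (specCompl A)).base z ∈ j₂.base '' C) := by
    intro z hz
    have hfst : (pullback.fst v g₁).base (r.inv.base z) = (pullback.fst (v ≫ U.ι) (specCompl A)).base z := by
      rw [← Scheme.Hom.comp_apply, pullbackRightPullbackFstIso_inv_fst]
    obtain ⟨q', hq'⟩ : r.inv.base z ∈ Set.range (pullback.fst Wh.hom (pullback.fst g₁ g₂)).base := by
      rw [Scheme.Pullback.range_fst, Set.mem_preimage, Scheme.Pullback.range_fst, Set.mem_preimage]
      have h1 : g₁.base (Wh.hom.base (r.inv.base z)) = v.base ((pullback.fst v g₁).base (r.inv.base z)) := by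
        rw [← Scheme.Hom.comp_apply, ← Scheme.Hom.comp_apply]
        exact congr($(pullback.condition (f := v) (g := g₁)).base (r.inv.base z)).symm
      refine (congrArg (fun y => y ∈ Set.range g₂.base) (h1.trans (congrArg v.base hfst))).mpr ?_
      have h2 := (hZ _).1 hz
      rw [Scheme.Pullback.range_fst] at h2
      exact h2
    have htr : j₂.base (tr.base q') = (pullback.fst (v ≫ U.ι) (specCompl A)).base z := by
      rw [← Scheme.Hom.comp_apply, pullback.lift_fst, Scheme.Hom.comp_apply, hq']
      exact hfst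
    show r.inv.base z ∈ Gh ↔ _
    rw [← htr, ← hq']
    exact (Set.ext_iff.1 hGhC q').trans ⟨fun h => ⟨_, h, rfl⟩, fun ⟨c, hc, he⟩ => (congrArg (fun y => y ∈ C) (hj₂ he)).mp hc⟩
  obtain ⟨G, hG, hGD⟩ := exists_isClopen_of_completion A f hf v (j₂.base '' C)
    (fun x hx => (hZ x).2 (Set.image_subset_range _ _ hx))
    ⟨r.inv.base ⁻¹' Gh, hGh.preimage r.inv.continuous, hext⟩
  refine ⟨G, hG, ?_⟩
  have h1 : j₂.base ⁻¹' G = j₂.base ⁻¹' (G ∩ (v ≫ U.ι).base ⁻¹' PrimeSpectrum.zeroLocus {f}) := by
    ext c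
    exact ⟨fun h => ⟨h, (hZ _).2 ⟨c, rfl⟩⟩, fun h => h.1⟩
  exact h1.trans ((congrArg (fun T => j₂.base ⁻¹' T) hGD).trans (Set.preimage_image_eq _ hj₂))

end Groth.Agent.FormalPatch
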