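import Mathlib.AlgebraicGeometry.Morphisms.QuasiSeparated
import Mathlib.AlgebraicGeometry.Morphisms.IsIso
import Mathlib.AlgebraicGeometry.Morphisms.Affine
import Mathlib.RingTheory.Localization.Away.Basic

/-!
Morphisms to affine schemes which are isomorphisms over basic opens.
-/

universe u

open CategoryTheory CategoryTheory.Limits AlgebraicGeometry TopologicalSpace

set_option linter.style.haveILetI false

namespace Groth.Agent.FormalPatch

section ring

variable {R S R' S' : Type u} [CommRing R] [CommRing S] [CommRing R'] [CommRing S'] [Algebra R R'] [Algebra S S']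
  (α : R →+* S) (β : R' →+* S') (f : R)
  (hcomm : ∀ x, β (algebraMap R R' x) = algebraMap S S' (α x))
  [IsLocalization.Away f R'] [IsLocalization.Away (α f) S']

include hcomm

theorem bijective_away (h1 : ∀ x, α x = 0 → ∃ n : ℕ, f ^ n * x = 0)
    (h2 : ∀ s, ∃ (n : ℕ) (x : R), α x = α f ^ n * s) : Function.Bijective β := by
  constructor
  · refine (injective_iff_map_eq_zero β).2 fun z hz => ?_
    obtain ⟨n, x, hx⟩ := IsLocalization.Away.surj f z
    have h3 : algebraMap S S' (α x) = 0 := by rw [← hcomm, ← hx, map_mul, hz, zero_mul]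
    obtain ⟨⟨_, m, rfl⟩, hm⟩ := (IsLocalization.map_eq_zero_iff (Submonoid.powers (α f)) S' _).1 h3
    have hm' : α (f ^ m * x) = 0 := by rw [map_mul, map_pow]; exact hm
    obtain ⟨k, hk⟩ := h1 _ hm'
    have h4 : algebraMap R R' x = 0 := (IsLocalization.map_eq_zero_iff (Submonoid.powers f) R' x).2
      ⟨⟨f ^ (k + m), k + m, rfl⟩, by show f ^ (k + m) * x = 0; rw [pow_add, mul_assoc]; exact hk⟩
    rw [h4] at hx
    exact (IsUnit.mul_left_eq_zero ((IsLocalization.Away.algebraMap_isUnit f).pow n)).1 hx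
  · intro w
    obtain ⟨n, s, hs⟩ := IsLocalization.Away.surj (α f) w
    obtain ⟨k, x, hx⟩ := h2 s
    obtain ⟨u, hu⟩ := IsLocalization.Away.algebraMap_isUnit (S := R') f
    refine ⟨algebraMap R R' x * ↑(u ^ (n + k))⁻¹, ?_⟩
    refine ((IsLocalization.Away.algebraMap_isUnit (S := S') (α f)).pow (n + k)).mul_left_inj.1 ?_
    have hbu : algebraMap S S' (α f) ^ (n + k) = β ↑(u ^ (n + k)) := by
      rw [Units.val_pow_eq_pow_val, map_pow, hu, hcomm]
    rw [hbu, ← map_mul, mul_assoc, Units.inv_mul, mul_one, hcomm, hx, map_mul, map_pow, ← hs, ← hbu, pow_add]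
    ring

theorem torsion_of_bijective_away (hβ : Function.Bijective β) :
    (∀ x, α x = 0 → ∃ n : ℕ, f ^ n * x = 0) ∧ ∀ s, ∃ (n : ℕ) (x : R), α x = α f ^ n * s := by
  refine ⟨fun x hx => ?_, fun s => ?_⟩
  · have : algebraMap R R' x = 0 := hβ.1 (by rw [hcomm, hx, map_zero, map_zero])
    obtain ⟨⟨_, n, rfl⟩, hn⟩ := (IsLocalization.map_eq_zero_iff (Submonoid.powers f) R' x).1 this
    exact ⟨n, hn⟩
  · obtain ⟨z, hz⟩ := hβ.2 (algebraMap S S' s)
    obtain ⟨n, x, hx⟩ := IsLocalization.Away.surj f z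
    have : algebraMap S S' (α x) = algebraMap S S' (α f ^ n * s) := by
      rw [← hcomm, ← hx, map_mul, hz, map_pow, hcomm, map_mul, map_pow, mul_comm]
    obtain ⟨⟨_, m, rfl⟩, hm⟩ := (IsLocalization.eq_iff_exists (Submonoid.powers (α f)) S').1 this
    refine ⟨m + n, f ^ m * x, ?_⟩
    rw [map_mul, map_pow, pow_add, mul_assoc]
    exact hm

end ring

section scheme

variable {V Y : Scheme.{u}} (t : V ⟶ Y) [CompactSpace V] [QuasiSeparatedSpace V] [IsAffine Y] (f : Γ(Y, ⊤))

/-- The map on sections over a basic open. -/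
theorem appLE_basicOpen_comm (x : Γ(Y, ⊤)) :
    t.appLE (Y.basicOpen f) (V.basicOpen (t.appTop f)) (Scheme.preimage_basicOpen_top t f).ge
      (Y.presheaf.map (homOfLE le_top).op x) =
    V.presheaf.map (homOfLE le_top).op (t.appTop x) := by
  have h : Y.presheaf.map (homOfLE le_top).op ≫
      t.appLE (Y.basicOpen f) (V.basicOpen (t.appTop f)) (Scheme.preimage_basicOpen_top t f).ge =
      t.app ⊤ ≫ V.presheaf.map (homOfLE le_top).op := by
    rw [Scheme.Hom.map_appLE]
    rfl
  exact congr($(h).hom x)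

theorem isIso_appLE_basicOpen (h1 : ∀ x, t.appTop x = 0 → ∃ n : ℕ, f ^ n * x = 0)
    (h2 : ∀ s, ∃ (n : ℕ) (x : Γ(Y, ⊤)), t.appTop x = t.appTop f ^ n * s) :
    IsIso (t.app (Y.basicOpen f)) := by
  letI : Algebra Γ(Y, ⊤) Γ(Y, Y.basicOpen f) := (Y.presheaf.map (homOfLE le_top).op).hom.toAlgebra
  letI : Algebra Γ(V, ⊤) Γ(V, V.basicOpen (t.appTop f)) := (V.presheaf.map (homOfLE le_top).op).hom.toAlgebra
  haveI : IsLocalization.Away f Γ(Y, Y.basicOpen f) := (isAffineOpen_top Y).isLocalization_basicOpen f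
  haveI : IsLocalization.Away (t.appTop.hom f) Γ(V, V.basicOpen (t.appTop f)) :=
    isLocalization_basicOpen_of_qcqs isCompact_univ isQuasiSeparated_univ _
  have hb := bijective_away (R' := Γ(Y, Y.basicOpen f)) (S' := Γ(V, V.basicOpen (t.appTop f))) t.appTop.hom
    (t.appLE (Y.basicOpen f) (V.basicOpen (t.appTop f)) (Scheme.preimage_basicOpen_top t f).ge).hom f
    (appLE_basicOpen_comm t f) h1 h2
  haveI : IsIso (t.appLE (Y.basicOpen f) (V.basicOpen (t.appTop f)) (Scheme.preimage_basicOpen_top t f).ge) :=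
    (ConcreteCategory.isIso_iff_bijective _).2 hb
  rw [Scheme.Hom.appLE] at this
  haveI : IsIso (V.presheaf.map (homOfLE (Scheme.preimage_basicOpen_top t f).ge).op) := by
    have : IsIso (homOfLE (Scheme.preimage_basicOpen_top t f).ge) :=
      ⟨homOfLE (Scheme.preimage_basicOpen_top t f).le, rfl, rfl⟩
    infer_instance
  exact IsIso.of_isIso_comp_right (t.app (Y.basicOpen f)) (V.presheaf.map (homOfLE (Scheme.preimage_basicOpen_top t f).ge).op)

/-- An open immersion into an affine scheme covering a basic open is bijective on sections up to torsion. -/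
theorem torsion_of_isOpenImmersion [IsOpenImmersion t] (hf : Y.basicOpen f ≤ t.opensRange) :
    (∀ x, t.appTop x = 0 → ∃ n : ℕ, f ^ n * x = 0) ∧
      ∀ s, ∃ (n : ℕ) (x : Γ(Y, ⊤)), t.appTop x = t.appTop f ^ n * s := by
  letI : Algebra Γ(Y, ⊤) Γ(Y, Y.basicOpen f) := (Y.presheaf.map (homOfLE le_top).op).hom.toAlgebra
  letI : Algebra Γ(V, ⊤) Γ(V, V.basicOpen (t.appTop f)) := (V.presheaf.map (homOfLE le_top).op).hom.toAlgebra
  haveI : IsLocalization.Away f Γ(Y, Y.basicOpen f) := (isAffineOpen_top Y).isLocalization_basicOpen f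
  haveI : IsLocalization.Away (t.appTop.hom f) Γ(V, V.basicOpen (t.appTop f)) :=
    isLocalization_basicOpen_of_qcqs isCompact_univ isQuasiSeparated_univ _
  haveI := t.isIso_app _ hf
  haveI : IsIso (V.presheaf.map (homOfLE (Scheme.preimage_basicOpen_top t f).ge).op) := by
    have : IsIso (homOfLE (Scheme.preimage_basicOpen_top t f).ge) :=
      ⟨homOfLE (Scheme.preimage_basicOpen_top t f).le, rfl, rfl⟩
    infer_instance
  refine torsion_of_bijective_away (R' := Γ(Y, Y.basicOpen f)) (S' := Γ(V, V.basicOpen (t.appTop f))) t.appTop.hom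
    (t.appLE (Y.basicOpen f) (V.basicOpen (t.appTop f)) (Scheme.preimage_basicOpen_top t f).ge).hom f
    (appLE_basicOpen_comm t f) ?_
  refine (ConcreteCategory.isIso_iff_bijective _).1 ?_
  rw [Scheme.Hom.appLE]
  infer_instance

end scheme

set_option backward.isDefEq.respectTransparency false in
/-- A morphism to an affine scheme which is bijective on sections over enough basic opens is an open
immersion onto their union. -/
theorem isOpenImmersion_of_basicOpens {V Y : Scheme.{u}} (t : V ⟶ Y) [IsAffine Y] (O : Y.Opens)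
    (hO : t ⁻¹ᵁ O = ⊤) {ι : Type u} (f : ι → Γ(Y, ⊤)) (hcov : O = ⨆ i, Y.basicOpen (f i))
    (haff : ∀ i, IsAffineOpen (t ⁻¹ᵁ Y.basicOpen (f i))) (hiso : ∀ i, IsIso (t.app (Y.basicOpen (f i)))) :
    IsOpenImmersion t ∧ Set.range t.base = (O : Set Y) := by
  have hD : ∀ i, IsIso (t ∣_ Y.basicOpen (f i)) := fun i => by
    haveI : IsAffine (Y.basicOpen (f i) : Scheme.{u}) := (isAffineOpen_top Y).basicOpen (f i)
    refine (HasAffineProperty.iff_of_isAffine (P := MorphismProperty.isomorphisms Scheme.{u})).2 ⟨haff i, ?_⟩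
    haveI := hiso i
    rw [morphismRestrict_appTop]
    haveI : IsIso (t.app ((Y.basicOpen (f i)).ι ''ᵁ ⊤)) := by
      rw [Scheme.Opens.ι_image_top]; exact hiso i
    infer_instance
  haveI : IsIso (t ∣_ O) := by
    refine (IsZariskiLocalAtTarget.iff_of_iSup_eq_top (P := MorphismProperty.isomorphisms Scheme.{u})
      (fun i => O.ι ⁻¹ᵁ Y.basicOpen (f i)) ?_).2 fun i => ?_
    · rw [← Scheme.Hom.preimage_iSup, ← hcov, Scheme.Opens.ι_preimage_self]
    · refine ((MorphismProperty.isomorphisms Scheme.{u}).arrow_mk_iso_iff (morphismRestrictRestrict t O _)).2 ?_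
      have heq : O.ι ''ᵁ (O.ι ⁻¹ᵁ Y.basicOpen (f i)) = Y.basicOpen (f i) := by
        rw [Scheme.Hom.image_preimage_eq_opensRange_inf, Scheme.Opens.opensRange_ι, inf_eq_right]
        exact hcov ▸ le_iSup (fun i => Y.basicOpen (f i)) i
      rw [heq]
      exact hD i
  have ht : t = V.topIso.inv ≫ (V.isoOfEq hO).inv ≫ (t ∣_ O) ≫ O.ι := by
    rw [morphismRestrict_ι, Scheme.isoOfEq_inv_ι_assoc, ← Category.assoc, ← Scheme.topIso_hom, Iso.inv_hom_id, Category.id_comp]
  haveI h : IsOpenImmersion t := by rw [ht]; infer_instance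
  refine ⟨h, Set.Subset.antisymm ?_ fun y hy => ?_⟩
  · rintro _ ⟨x, rfl⟩
    exact (hO ▸ trivial : x ∈ t ⁻¹ᵁ O)
  · obtain ⟨z, hz⟩ := (t ∣_ O).surjective ⟨y, hy⟩
    refine ⟨(t ⁻¹ᵁ O).ι.base z, ?_⟩
    show t.base ((t ⁻¹ᵁ O).ι.base z) = y
    rw [← Scheme.Hom.comp_apply, ← morphismRestrict_ι, Scheme.Hom.comp_apply, hz]
    rfl

end Groth.Agent.FormalPatch
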