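import Groth.Agent.FormalPatch.Alg
import Groth.Agent.FormalPatch.Scheme
import Groth.Agent.HensCouple7.Gamma
import Groth.Prelude.Def_FEt
import Mathlib.AlgebraicGeometry.GammaSpecAdjunction
import Mathlib.AlgebraicGeometry.Morphisms.Finite
import Mathlib.RingTheory.AdicCompletion.LocalRing

/-!
Finite schemes over the punctured spectrum extending over the completion extend.
-/

universe u

open CategoryTheory CategoryTheory.Limits AlgebraicGeometry IsLocalRing TopologicalSpace TensorProduct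

set_option linter.style.haveILetI false

namespace Groth.Agent.FormalPatch

variable (A : Type u) [CommRing A] [IsNoetherianRing A] [IsLocalRing A]

/-- The map from the spectrum of the completion. -/
noncomputable abbrev specCompl : Spec (CommRingCat.of (AdicCompletion (maximalIdeal A) A)) ⟶ Spec (CommRingCat.of A) :=
  Spec.map (CommRingCat.ofHom (algebraMap A (AdicCompletion (maximalIdeal A) A)))

theorem exists_pow_smul {M : Type u} [AddCommGroup M] [Module A M] (N : Submodule A M) (m : M)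
    (h : ∀ f ∈ maximalIdeal A, ∃ n : ℕ, f ^ n • m ∈ N) :
    ∃ n : ℕ, ∀ a ∈ maximalIdeal A ^ n, a • m ∈ N := by
  let I : Ideal A := N.comap (LinearMap.toSpanSingleton A M m)
  obtain ⟨n, hn⟩ := I.exists_radical_pow_le_of_fg (IsNoetherian.noetherian _)
  have hle : maximalIdeal A ≤ I.radical := fun f hf => by
    obtain ⟨k, hk⟩ := h f hf
    exact ⟨k, hk⟩
  exact ⟨n, fun a ha => hn (Ideal.pow_right_mono hle n ha)⟩

set_option backward.isDefEq.respectTransparency false in
theorem exists_patch {V : Scheme.{u}} (v : V ⟶ (FEt.puncturedSpec A : Scheme.{u})) [IsFinite v]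
    {Y' : Scheme.{u}} (y' : Y' ⟶ Spec (CommRingCat.of (AdicCompletion (maximalIdeal A) A))) [IsFinite y']
    (j : pullback (v ≫ (FEt.puncturedSpec A).ι) (specCompl A) ⟶ Y') [IsOpenImmersion j]
    (hj : j ≫ y' = pullback.snd _ _)
    (hjr : Set.range j.base = (y' ≫ specCompl A).base ⁻¹' (FEt.puncturedSpec A : Set _)) :
    ∃ (B : CommRingCat.{u}) (p : CommRingCat.of A ⟶ B) (_ : p.hom.Finite) (t : V ⟶ Spec B)
      (ι : B ⟶ Γ(Y', ⊤)),
      IsPullback t v (Spec.map p) (FEt.puncturedSpec A).ι ∧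
      IsPullback (Y'.toSpecΓ ≫ Spec.map ι) y' (Spec.map p) (specCompl A) := by
  classical
  let U := FEt.puncturedSpec A
  let ρ := specCompl A
  let R := AdicCompletion (maximalIdeal A) A
  haveI : IsAffine Y' := isAffine_of_isAffineHom y'
  haveI : CompactSpace (U : Scheme.{u}) :=
    isCompact_iff_compactSpace.1 (NoetherianSpace.isCompact (U : Set (Spec (CommRingCat.of A))))
  haveI : CompactSpace V := QuasiCompact.compactSpace_of_compactSpace v
  haveI : QuasiSeparatedSpace V := quasiSeparatedSpace_of_quasiSeparated v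
  let w : V ⟶ Spec (CommRingCat.of A) := v ≫ U.ι
  let P := pullback w ρ
  haveI : Flat ρ := by
    rw [HasRingHomProperty.Spec_iff (P := @Flat)]
    exact RingHom.flat_algebraMap_iff.mpr (AdicCompletion.flat_of_isNoetherian _)
  haveI : QuasiCompact w := inferInstance
  haveI : QuasiSeparated w := inferInstance
  haveI : CompactSpace P := QuasiCompact.compactSpace_of_compactSpace (pullback.snd w ρ)
  haveI : QuasiSeparatedSpace P := quasiSeparatedSpace_of_quasiSeparated (pullback.snd w ρ)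
  let SA := Scheme.ΓSpecIso (CommRingCat.of A)
  let SR := Scheme.ΓSpecIso (CommRingCat.of R)
  let N := Γ(V, ⊤)
  letI : Algebra A N := (SA.inv ≫ w.appTop).hom.toAlgebra
  letI : Algebra R Γ(P, ⊤) := (SR.inv ≫ (pullback.snd w ρ).appTop).hom.toAlgebra
  letI : Algebra N Γ(P, ⊤) := (pullback.fst w ρ).appTop.hom.toAlgebra
  letI : Algebra A Γ(P, ⊤) := ((algebraMap R Γ(P, ⊤)).comp (algebraMap A R)).toAlgebra
  haveI : IsScalarTower A R Γ(P, ⊤) := IsScalarTower.of_algebraMap_eq fun _ => rfl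
  have hpo := HensCouple7.isPushout_appTop (IsPullback.of_hasPullback w ρ)
  have hpo' : IsPushout (CommRingCat.ofHom (algebraMap A N)) (CommRingCat.ofHom (algebraMap A R))
      (CommRingCat.ofHom (algebraMap N Γ(P, ⊤))) (CommRingCat.ofHom (algebraMap R Γ(P, ⊤))) := by
    refine hpo.of_iso SA (Iso.refl _) SR (Iso.refl _) ?_ ?_ ?_ ?_
    · show _ = SA.hom ≫ SA.inv ≫ w.appTop
      rw [Iso.hom_inv_id_assoc, Iso.refl_hom, Category.comp_id]
    · exact Scheme.ΓSpecIso_naturality _
    · rw [Iso.refl_hom, Category.comp_id]; rfl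
    · show _ = SR.hom ≫ SR.inv ≫ (pullback.snd w ρ).appTop
      rw [Iso.hom_inv_id_assoc, Iso.refl_hom, Category.comp_id]
  haveI : IsScalarTower A N Γ(P, ⊤) := IsScalarTower.of_algebraMap_eq fun a => (congr($(hpo'.w).hom a)).symm
  haveI : Algebra.IsPushout A R N Γ(P, ⊤) := CommRingCat.isPushout_iff_isPushout.1 hpo'.flip
  let Θ : R ⊗[A] N ≃ₐ[R] Γ(P, ⊤) := Algebra.IsPushout.equiv A R N Γ(P, ⊤)
  let B' := Γ(Y', ⊤)
  letI : Algebra R B' := (SR.inv ≫ y'.appTop).hom.toAlgebra
  letI : Algebra A B' := (SA.inv ≫ (y' ≫ ρ).appTop).hom.toAlgebra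
  haveI : IsScalarTower A R B' := IsScalarTower.of_algebraMap_eq fun a => by
    have h : SA.inv ≫ (y' ≫ ρ).appTop = CommRingCat.ofHom (algebraMap A R) ≫ SR.inv ≫ y'.appTop := by
      rw [Scheme.ΓSpecIso_inv_naturality_assoc, Scheme.Hom.comp_appTop]
    exact congr($(h).hom a)
  let jΓ : B' →ₐ[R] Γ(P, ⊤) :=
    { j.appTop.hom with
      commutes' := fun r => by
        have h : (SR.inv ≫ y'.appTop) ≫ j.appTop = SR.inv ≫ (pullback.snd w ρ).appTop := by
          rw [Category.assoc, ← Scheme.Hom.comp_appTop, hj]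
        exact congr($(h).hom r) }
  let φ : B' →ₐ[R] R ⊗[A] N := Θ.symm.toAlgHom.comp jΓ
  have hfr : ∀ f ∈ maximalIdeal A, Y'.basicOpen (algebraMap A B' f) ≤ j.opensRange := by
    intro f hf z hz
    show z ∈ Set.range j.base
    rw [hjr]
    intro hc
    have hz' : z ∈ (y' ≫ ρ) ⁻¹ᵁ (Spec (CommRingCat.of A)).basicOpen (SA.inv f) := by
      rw [Scheme.preimage_basicOpen_top]; exact hz
    rw [basicOpen_eq_of_affine'] at hz'
    have h2 : SA.hom (SA.inv f) ∉ ((y' ≫ ρ).base z).asIdeal := hz'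
    rw [show SA.hom (SA.inv f) = f from congr($(SA.inv_hom_id).hom f), Set.mem_singleton_iff.1 hc] at h2
    exact h2 hf
  have hker : ∀ b : B', φ b = 0 → ∃ n : ℕ, ∀ a ∈ maximalIdeal A ^ n, a • b = 0 := by
    intro b hb
    refine (exists_pow_smul A (⊥ : Submodule A B') b fun f hf => ?_)
    have hb0 : j.appTop b = 0 := by
      have := congrArg Θ hb
      rwa [map_zero, show Θ (φ b) = jΓ b from Θ.apply_symm_apply _] at this
    obtain ⟨n, hn⟩ := (torsion_of_isOpenImmersion j _ (hfr f hf)).1 b hb0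
    exact ⟨n, by rw [Submodule.mem_bot, Algebra.smul_def, map_pow]; exact hn⟩
  have hcoker : ∀ s : R ⊗[A] N, ∃ n : ℕ, ∀ a ∈ maximalIdeal A ^ n, a • s ∈ Set.range φ := by
    intro s
    refine exists_pow_smul A (φ.restrictScalars A).toLinearMap.range s fun f hf => ?_
    obtain ⟨n, b, hb⟩ := (torsion_of_isOpenImmersion j _ (hfr f hf)).2 (Θ s)
    refine ⟨n, b, ?_⟩
    apply Θ.injective
    show Θ (φ b) = Θ (f ^ n • s)
    rw [show Θ (φ b) = jΓ b from Θ.apply_symm_apply _, ← IsScalarTower.algebraMap_smul R (f ^ n) s, map_smul,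
      Algebra.smul_def, map_pow, map_pow]
    refine hb.trans (congrArg (fun z => z ^ n * Θ s) ?_)
    show jΓ (algebraMap A B' f) = _
    rw [IsScalarTower.algebraMap_apply A R B', AlgHom.commutes]
  haveI : Module.Finite R B' := by
    have : (SR.inv ≫ y'.appTop).hom.Finite := by
      exact (y'.finite_app ⊤ (isAffineOpen_top _)).comp
        (RingHom.Finite.of_surjective _ (ConcreteCategory.bijective_of_isIso SR.inv).2)
    exact this
  haveI : Module.Flat A R := AdicCompletion.flat_of_isNoetherian _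
  haveI : IsLocalHom (algebraMap A R) := inferInstance
  haveI : Module.FaithfullyFlat A R := Module.FaithfullyFlat.of_flat_of_isLocalHom
  have hmk : ∀ (T : Type u) [AddCommGroup T] [Module A T], LocCoh.IsPowerTorsion (maximalIdeal A) T →
      Function.Bijective (TensorProduct.mk A R T 1) := fun T _ _ hT => LC.mk_one_bijective_of_powerTorsion T hT
  haveI := finite_patch φ hmk hker hcoker
  let B := CommRingCat.of ↥(patch φ)
  let p : CommRingCat.of A ⟶ B := CommRingCat.ofHom (algebraMap A ↥(patch φ))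
  let π₁ : B ⟶ Γ(Y', ⊤) := CommRingCat.ofHom ((AlgHom.fst A B' N).comp (patch φ).val).toRingHom
  let π₂ : B ⟶ Γ(V, ⊤) := CommRingCat.ofHom (toPunct φ).toRingHom
  have hp₂ : p ≫ π₂ = SA.inv ≫ w.appTop := by
    ext a; exact (toPunct φ).commutes a
  have hp₁ : p ≫ π₁ = SA.inv ≫ (y' ≫ ρ).appTop := by
    ext a; rfl
  have hnat : ∀ {X : Scheme.{u}} (g : X ⟶ Spec (CommRingCat.of A)) (π : B ⟶ Γ(X, ⊤)),
      p ≫ π = SA.inv ≫ g.appTop → (X.toSpecΓ ≫ Spec.map π) ≫ Spec.map p = g := by
    intro X g π hπ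
    rw [Category.assoc, ← Spec.map_comp, hπ, Spec.map_comp, ← Category.assoc, ← Scheme.toSpecΓ_naturality,
      Category.assoc, toSpecΓ_SpecMap_ΓSpecIso_inv, Category.comp_id]
  let t : V ⟶ Spec B := V.toSpecΓ ≫ Spec.map π₂
  have htw : t ≫ Spec.map p = w := hnat w π₂ hp₂
  have htapp : ∀ x, t.appTop x = π₂ ((Scheme.ΓSpecIso B).hom x) := by
    intro x
    have h : t.appTop = (Scheme.ΓSpecIso B).hom ≫ π₂ := by
      rw [Scheme.Hom.comp_appTop, Scheme.toSpecΓ_appTop, Scheme.ΓSpecIso_naturality]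
    exact congr($(h).hom x)
  let fB : maximalIdeal A → Γ(Spec B, ⊤) := fun f => (Scheme.ΓSpecIso B).inv (p f.1)
  have hfB : ∀ f : maximalIdeal A, (Scheme.ΓSpecIso B).hom (fB f) = p f.1 := fun f =>
    congr($((Scheme.ΓSpecIso B).inv_hom_id).hom (p f.1))
  have hD : ∀ f : maximalIdeal A, (Spec B).basicOpen (fB f) =
      Spec.map p ⁻¹ᵁ (Spec (CommRingCat.of A)).basicOpen (SA.inv f.1) := by
    intro f
    rw [Scheme.preimage_basicOpen_top]
    refine congrArg _ ?_
    exact congr($(Scheme.ΓSpecIso_inv_naturality p).hom f.1)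
  have hU : U = ⨆ f : maximalIdeal A, (Spec (CommRingCat.of A)).basicOpen (SA.inv f.1) := by
    ext x
    simp only [Opens.coe_iSup, Set.mem_iUnion, SetLike.mem_coe]
    have hbas : ∀ f : A, x ∈ (Spec (CommRingCat.of A)).basicOpen (SA.inv f) ↔ f ∉ x.asIdeal := fun f => by
      rw [basicOpen_eq_of_affine']
      show SA.hom (SA.inv f) ∉ x.asIdeal ↔ _
      rw [show SA.hom (SA.inv f) = f from congr($(SA.inv_hom_id).hom f)]
    constructor
    · intro hx
      by_contra h
      simp only [not_exists, hbas, not_not] at h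
      refine hx (Set.mem_singleton_iff.2 (PrimeSpectrum.ext ?_))
      exact ((maximalIdeal.isMaximal A).eq_of_le x.isPrime.ne_top fun f hf => h ⟨f, hf⟩).symm
    · rintro ⟨f, hf⟩ hc
      rw [hbas, Set.mem_singleton_iff.1 hc] at hf
      exact hf f.2
  have hcov : Spec.map p ⁻¹ᵁ U = ⨆ f, (Spec B).basicOpen (fB f) := by
    rw [hU, Scheme.Hom.preimage_iSup]
    exact iSup_congr fun f => (hD f).symm
  obtain ⟨ht1, ht2⟩ := isOpenImmersion_of_basicOpens t (Spec.map p ⁻¹ᵁ U) (by
      rw [← Scheme.Hom.comp_preimage, htw]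
      ext x
      simp only [Opens.coe_top, Set.mem_univ, iff_true]
      exact (v.base x).2) fB hcov (fun f => by
      rw [hD, ← Scheme.Hom.comp_preimage, htw, Scheme.Hom.comp_preimage]
      refine (IsAffineOpen.preimage_of_isOpenImmersion ((isAffineOpen_top _).basicOpen _) U.ι ?_).preimage v
      rw [Scheme.Opens.opensRange_ι]
      exact hU ▸ le_iSup (fun f : maximalIdeal A => (Spec (CommRingCat.of A)).basicOpen (SA.inv f.1)) f) (fun f => by
      obtain ⟨h1, h2⟩ := exists_of_mem_maximalIdeal φ hker hcoker f.2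
      refine isIso_appLE_basicOpen t _ (fun x hx => ?_) fun s => ?_
      · rw [htapp] at hx
        obtain ⟨n, hn⟩ := h1 ((Scheme.ΓSpecIso B).hom x) hx
        refine ⟨n, (ConcreteCategory.bijective_of_isIso (Scheme.ΓSpecIso B).hom).1 ?_⟩
        rw [map_zero, map_mul, map_pow, hfB]
        rw [Algebra.smul_def, map_pow] at hn
        exact hn
      · obtain ⟨n, x, hx⟩ := h2 s
        refine ⟨n, (Scheme.ΓSpecIso B).inv x, ?_⟩
        rw [htapp, htapp, show (Scheme.ΓSpecIso B).hom ((Scheme.ΓSpecIso B).inv x) = x from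
          congr($((Scheme.ΓSpecIso B).inv_hom_id).hom x), hfB]
        refine hx.trans ?_
        rw [Algebra.smul_def, map_pow]
        exact congrArg (fun z => z ^ n * s) congr($(hp₂).hom f.1).symm)
  refine ⟨B, p, RingHom.finite_algebraMap.2 ‹Module.Finite A ↥(patch φ)›, t, π₁, ?_, ?_⟩
  · haveI := ht1
    refine (IsOpenImmersion.isPullback v t U.ι (Spec.map p) htw ?_).flip
    rw [Scheme.Opens.opensRange_ι]
    exact Opens.ext ht2.symm
  · have hμ : CommRingCat.ofHom (toCompl φ).toRingHom ≫ 𝟙 _ = CommRingCat.ofHom (toCompl φ).toRingHom := rfl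
    let e := (AlgEquiv.ofBijective _ (toCompl_bijective φ hmk hker hcoker))
    have hpush : IsPushout p (CommRingCat.ofHom (algebraMap A R)) π₁ (SR.inv ≫ y'.appTop) := by
      refine (CommRingCat.isPushout_tensorProduct A R ↥(patch φ)).flip.of_iso (Iso.refl _) (Iso.refl _) (Iso.refl _)
        e.toRingEquiv.toCommRingCatIso ?_ ?_ ?_ ?_
      · rfl
      · rfl
      · ext x
        show toCompl φ ((1 : R) ⊗ₜ[A] x) = x.1.1
        rw [toCompl_tmul, map_one, one_mul]
      · ext r
        show toCompl φ (r ⊗ₜ[A] 1) = algebraMap R B' r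
        rw [toCompl_tmul]
        exact mul_one _
    have h2 := isPullback_SpecMap_of_isPushout _ _ _ _ hpush
    refine IsPullback.of_iso h2 Y'.isoSpec.symm (Iso.refl _) (Iso.refl _) (Iso.refl _) ?_ ?_ ?_ ?_
    · simp [Scheme.isoSpec]
    · simp only [Iso.refl_hom, Category.comp_id, Iso.symm_hom]
      rw [Iso.eq_inv_comp, Scheme.isoSpec_hom, Spec.map_comp, ← Category.assoc, ← Scheme.toSpecΓ_naturality,
        Category.assoc, toSpecΓ_SpecMap_ΓSpecIso_inv, Category.comp_id]
    · simp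
    · simp [specCompl, R]

end Groth.Agent.FormalPatch
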