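import Groth.Agent.FormalPatch.HenselClopen
import Groth.Agent.ParaFX.Ufd
import Groth.Agent.LC.PuncturedConn
import Groth.Agent.Alg6.AssDepth
import Mathlib.RingTheory.Etale.Field
import Mathlib.RingTheory.DedekindDomain.IntegralClosure
import Mathlib.FieldTheory.Minpoly.IsIntegrallyClosed
import Mathlib.AlgebraicGeometry.Morphisms.Etale

/-!
Global functions on finite étale covers of the punctured spectrum of a normal local ring.
-/

universe u

open CategoryTheory CategoryTheory.Limits AlgebraicGeometry IsLocalRing TopologicalSpace TensorProduct Polynomial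

set_option linter.style.haveILetI false

namespace Groth.Agent.FormalPatch

section algebra

variable {A : Type u} [CommRing A] [IsDomain A] [IsNoetherianRing A] [IsLocalRing A] [IsIntegrallyClosed A]
  {K : Type u} [Field K] [Algebra A K] [IsFractionRing A K]
  (hdepth : (2 : ℕ∞) ≤ LocCoh.depth A A)

include hdepth

omit [IsIntegrallyClosed A] in
/-- Extension of fractions over a closed point of depth two. -/
theorem mem_range_of_pow_mul (c : K) (n : ℕ)
    (h : ∀ a ∈ maximalIdeal A ^ n, algebraMap A K a * c ∈ Set.range (algebraMap A K)) :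
    c ∈ Set.range (algebraMap A K) := by
  obtain ⟨z, hz, hzr⟩ := LC.exists_regular_of_depth (M := A) (k := 2) two_pos hdepth
  rcases Nat.eq_zero_or_pos n with rfl | hn
  · simpa using h 1 (by simp)
  let a := z ^ n
  have ha : a ∈ maximalIdeal A := Ideal.pow_mem_of_mem _ hz n hn
  have har : IsSMulRegular A a := hzr.pow n
  let Q := QuotSMulTop a A
  haveI : Nontrivial Q := Submodule.Quotient.nontrivial_iff.2 (by
    rw [← Submodule.ideal_span_singleton_smul]
    exact LC.smul_top_ne_top_of_le_maximal (R := A) (M := A) (J := Ideal.span {a})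
      ((Ideal.span_singleton_le_iff_mem _).2 ha))
  obtain ⟨w, hw, hwr⟩ := LC.exists_regular_of_depth (M := Q) (k := 1) one_pos
    ((LC.le_idealDepth_quotSMulTop_iff (maximalIdeal A) ha har 1).2 hdepth)
  obtain ⟨α, hα⟩ := h a (Ideal.pow_mem_pow hz n)
  obtain ⟨β, hβ⟩ := h (w ^ n) (Ideal.pow_mem_pow hw n)
  have he : w ^ n * α = a * β := by
    apply IsFractionRing.injective A K
    rw [map_mul, map_mul, hα, hβ]
    ring
  have h1 : w ^ n • (Submodule.Quotient.mk α : Q) = 0 := by
    rw [← Submodule.Quotient.mk_smul, Alg6.mem_pointwise_smul_top_iff]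
    exact ⟨β, by rw [smul_eq_mul, smul_eq_mul, he]⟩
  have h2 : (Submodule.Quotient.mk α : Q) = 0 := (hwr.pow n) (show w ^ n • _ = w ^ n • (0 : Q) by rw [h1, smul_zero])
  rw [Alg6.mem_pointwise_smul_top_iff] at h2
  obtain ⟨γ, hγ⟩ := h2
  refine ⟨γ, ?_⟩
  have hz0 : z ≠ 0 := fun h0 => one_ne_zero (hzr (show z • (1 : A) = z • (0 : A) by simp [h0]))
  have hane : algebraMap A K a ≠ 0 := fun h0 =>
    pow_ne_zero n hz0 (IsFractionRing.injective A K (h0.trans (map_zero _).symm))
  refine mul_left_cancel₀ hane ?_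
  rw [← hα, ← map_mul, ← smul_eq_mul, hγ]

/-- Elements which are integral on the punctured spectrum are integral. -/
theorem isIntegral_of_pow_mul {L : Type u} [Field L] [Algebra K L] [Algebra A L] [IsScalarTower A K L]
    [FiniteDimensional K L] (x : L)
    (h : ∀ g ∈ maximalIdeal A, g ≠ 0 → ∃ k : ℕ, IsIntegral A (algebraMap A L g ^ k * x)) : IsIntegral A x := by
  have hxK : IsIntegral K x := .of_finite K x
  let P := minpoly K x
  have hcoef : ∀ i, P.coeff i ∈ Set.range (algebraMap A K) := by
    intro i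
    let M : Submodule A K := LinearMap.range (Algebra.linearMap A K)
    obtain ⟨n, hn⟩ := exists_pow_smul A M (P.coeff i) fun g hg => by
      rcases eq_or_ne g 0 with rfl | hg0
      · exact ⟨1, by simp⟩
      obtain ⟨k, hk⟩ := h g hg hg0
      refine ⟨k * (P.natDegree - i), ?_⟩
      let u : K := algebraMap A K g ^ k
      have hu : u ≠ 0 := pow_ne_zero _ fun h0 => hg0 (IsFractionRing.injective A K (h0.trans (map_zero _).symm))
      have hux : algebraMap A L g ^ k * x = algebraMap K L u * x := by
        rw [map_pow, ← IsScalarTower.algebraMap_apply]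
      rw [hux] at hk
      have hmin : P.scaleRoots u = minpoly K (algebraMap K L u * x) := by
        have hmon : (P.scaleRoots u).Monic := (monic_scaleRoots_iff u).2 (minpoly.monic hxK)
        refine minpoly.unique K _ hmon (scaleRoots_aeval_eq_zero (minpoly.aeval K x)) fun q hq hq0 => ?_
        rw [degree_scaleRoots]
        refine le_of_le_of_eq (minpoly.min K x ((monic_scaleRoots_iff u⁻¹).2 hq) ?_) (degree_scaleRoots q)
        have h1 := scaleRoots_aeval_eq_zero (r := u⁻¹) hq0
        rwa [← mul_assoc, ← map_mul, inv_mul_cancel₀ hu, map_one, one_mul] at h1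
      have hA : P.scaleRoots u = (minpoly A (algebraMap K L u * x)).map (algebraMap A K) :=
        hmin.trans (minpoly.isIntegrallyClosed_eq_field_fractions' K hk)
      have h2 := congrArg (fun p => p.coeff i) hA
      simp only [coeff_scaleRoots, coeff_map] at h2
      show g ^ (k * (P.natDegree - i)) • P.coeff i ∈ M
      refine ⟨(minpoly A (algebraMap K L u * x)).coeff i, ?_⟩
      rw [Algebra.linearMap_apply, ← h2, Algebra.smul_def, map_pow, pow_mul]
      exact mul_comm _ _
    exact mem_range_of_pow_mul hdepth _ n fun a ha => by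
      obtain ⟨b, hb⟩ := hn a ha
      exact ⟨b, hb.trans (Algebra.smul_def _ _)⟩
  obtain ⟨Q, hQ, -, hQm⟩ := lifts_and_degree_eq_and_monic (Polynomial.lifts_iff_coeff_lifts P |>.2 hcoef) (minpoly.monic hxK)
  exact ⟨Q, hQm, by rw [← Polynomial.aeval_def, ← Polynomial.aeval_map_algebraMap K, hQ]; exact minpoly.aeval K x⟩

end algebra

variable (A : Type u) [CommRing A] [IsNoetherianRing A] [IsLocalRing A]

set_option backward.isDefEq.respectTransparency false in
/-- On each basic open of the maximal ideal a finite étale cover has finite étale algebra of functions. -/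
theorem basicOpen_data {V : Scheme.{u}} (v : V ⟶ (FEt.puncturedSpec A : Scheme.{u})) [IsFinite v] [Etale v]
    [Algebra A Γ(V, ⊤)] (halg : CommRingCat.ofHom (algebraMap A Γ(V, ⊤)) =
      (Scheme.ΓSpecIso (CommRingCat.of A)).inv ≫ (v ≫ (FEt.puncturedSpec A).ι).appTop)
    {g : A} (hg : g ∈ maximalIdeal A) :
    ∃ (Af : Type u) (_ : CommRing Af) (_ : Algebra A Af) (_ : Algebra Af Γ(V, V.basicOpen (algebraMap A Γ(V, ⊤) g))),
      IsLocalization.Away g Af ∧ Module.Finite Af Γ(V, V.basicOpen (algebraMap A Γ(V, ⊤) g)) ∧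
      Algebra.Etale Af Γ(V, V.basicOpen (algebraMap A Γ(V, ⊤) g)) ∧
      ∀ a : A, algebraMap Af Γ(V, V.basicOpen (algebraMap A Γ(V, ⊤) g)) (algebraMap A Af a) =
        V.presheaf.map (homOfLE le_top).op (algebraMap A Γ(V, ⊤) a) := by
  let U := FEt.puncturedSpec A
  let SA := Scheme.ΓSpecIso (CommRingCat.of A)
  let w : V ⟶ Spec (CommRingCat.of A) := v ≫ U.ι
  haveI : Etale w := inferInstance
  let D := (Spec (CommRingCat.of A)).basicOpen (SA.inv g)
  have hgw : algebraMap A Γ(V, ⊤) g = w.appTop (SA.inv g) := congr($(halg).hom g)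
  have hpre : w ⁻¹ᵁ D = V.basicOpen (algebraMap A Γ(V, ⊤) g) := by
    rw [hgw]; exact Scheme.preimage_basicOpen_top w _
  have hDU : D ≤ U := (le_iSup (fun f : maximalIdeal A => (Spec (CommRingCat.of A)).basicOpen (SA.inv f.1)) ⟨g, hg⟩).trans
    (puncturedSpec_eq_iSup A).ge
  have h1 : IsAffineOpen (U.ι ⁻¹ᵁ D) := IsAffineOpen.preimage_of_isOpenImmersion
    ((isAffineOpen_top _).basicOpen _) U.ι (by rwa [Scheme.Opens.opensRange_ι])
  have haff : IsAffineOpen (w ⁻¹ᵁ D) := h1.preimage v
  have hfin : (w.app D).hom.Finite := by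
    haveI := U.ι.isIso_app D (by rwa [Scheme.Opens.opensRange_ι])
    rw [show w.app D = U.ι.app D ≫ v.app (U.ι ⁻¹ᵁ D) from Scheme.Hom.comp_app v U.ι D, CommRingCat.hom_comp]
    exact (v.finite_app _ h1).comp
      (RingHom.Finite.of_surjective _ (ConcreteCategory.bijective_of_isIso (U.ι.app D)).2)
  have het : (w.app D).hom.Etale := by
    rw [Scheme.Hom.app_eq_appLE]
    exact HasRingHomProperty.appLE (P := @Etale) w ‹_› ⟨D, (isAffineOpen_top _).basicOpen _⟩ ⟨_, haff⟩ le_rfl
  let Af := Γ(Spec (CommRingCat.of A), D)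
  letI : Algebra A Af := (SA.inv ≫ (Spec (CommRingCat.of A)).presheaf.map (homOfLE le_top).op).hom.toAlgebra
  haveI : IsLocalization.Away g Af := by
    letI := ((Spec (CommRingCat.of A)).presheaf.map (homOfLE (le_top : D ≤ ⊤)).op).hom.toAlgebra
    have h := (isAffineOpen_top (Spec (CommRingCat.of A))).isLocalization_basicOpen (SA.inv g)
    have := IsLocalization.isLocalization_of_base_ringEquiv (Submonoid.powers (SA.inv g)) Af SA.commRingCatIsoToRingEquiv
    rw [Submonoid.map_powers] at this
    have hg' : SA.commRingCatIsoToRingEquiv (SA.inv g) = g := congr($(SA.inv_hom_id).hom g)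
    convert this using 2
    · exact hg'.symm
    · rfl
  haveI : IsIso (V.presheaf.map (homOfLE hpre.ge).op) := by
    have : IsIso (homOfLE hpre.ge) := ⟨homOfLE hpre.le, rfl, rfl⟩
    infer_instance
  letI : Algebra Af Γ(V, V.basicOpen (algebraMap A Γ(V, ⊤) g)) :=
    (w.app D ≫ V.presheaf.map (homOfLE hpre.ge).op).hom.toAlgebra
  refine ⟨Af, inferInstance, inferInstance, inferInstance, ‹_›, ?_, ?_, ?_⟩
  · exact (RingHom.Finite.of_surjective _
      (ConcreteCategory.bijective_of_isIso (V.presheaf.map (homOfLE hpre.ge).op)).2).comp hfin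
  · exact RingHom.etale_algebraMap.1 ((RingHom.RespectsIso.cancel_right_isIso RingHom.Etale.respectsIso _ _).2 het)
  · intro a
    have h : (Spec (CommRingCat.of A)).presheaf.map (homOfLE (le_top : D ≤ ⊤)).op ≫ w.app D ≫
        V.presheaf.map (homOfLE hpre.ge).op = w.appTop ≫ V.presheaf.map (homOfLE le_top).op := by
      rw [Scheme.Hom.naturality_assoc, ← V.presheaf.map_comp]
      rfl
    refine (congr($(h).hom (SA.inv a))).trans ?_
    exact congrArg (fun z => V.presheaf.map (homOfLE le_top).op z) congr($(halg).hom a).symm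

set_option backward.isDefEq.respectTransparency false in
/-- Global functions of finite étale covers of the punctured spectrum of a normal local ring are finite. -/
theorem finite_gamma [IsDomain A] [IsIntegrallyClosed A] (hdim : (2 : WithBot ℕ∞) ≤ ringKrullDim A)
    {V : Scheme.{u}} (v : V ⟶ (FEt.puncturedSpec A : Scheme.{u})) [IsFinite v] [Etale v]
    [Algebra A Γ(V, ⊤)] (halg : CommRingCat.ofHom (algebraMap A Γ(V, ⊤)) =
      (Scheme.ΓSpecIso (CommRingCat.of A)).inv ≫ (v ≫ (FEt.puncturedSpec A).ι).appTop) :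
    Module.Finite A Γ(V, ⊤) := by
  classical
  let U := FEt.puncturedSpec A
  haveI : CompactSpace (U : Scheme.{u}) :=
    isCompact_iff_compactSpace.1 (NoetherianSpace.isCompact (U : Set (Spec (CommRingCat.of A))))
  haveI : CompactSpace V := QuasiCompact.compactSpace_of_compactSpace v
  haveI : QuasiSeparatedSpace V := quasiSeparatedSpace_of_quasiSeparated v
  have hdepth := ParaFX.two_le_depth_of_normal A hdim
  let N := Γ(V, ⊤)
  let K := FractionRing A
  have hnf : ¬ IsField A := fun h => by
    rw [ringKrullDim_eq_zero_of_isField h] at hdim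
    exact absurd hdim (by decide)
  obtain ⟨g₀, hg₀, hg₀0⟩ := Submodule.exists_mem_ne_zero_of_ne_bot
    (fun hh => hnf (isField_iff_maximalIdeal_eq.mpr hh))
  -- integrality away from the closed point
  have hloc : ∀ g ∈ maximalIdeal A, ∀ n : N, ∃ k : ℕ, IsIntegral A (g ^ k • n) := by
    intro g hg n
    obtain ⟨Af, _, _, _, hAf, hfin, -, hcomm⟩ := basicOpen_data A v halg hg
    let Nf := Γ(V, V.basicOpen (algebraMap A N g))
    letI : Algebra N Nf := (V.presheaf.map (homOfLE le_top).op).hom.toAlgebra
    haveI : IsLocalization.Away (algebraMap A N g) Nf :=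
      isLocalization_basicOpen_of_qcqs isCompact_univ isQuasiSeparated_univ _
    letI : Algebra A Nf := ((algebraMap N Nf).comp (algebraMap A N)).toAlgebra
    haveI : IsScalarTower A N Nf := IsScalarTower.of_algebraMap_eq fun _ => rfl
    haveI : IsScalarTower A Af Nf := IsScalarTower.of_algebraMap_eq fun a => (hcomm a).symm
    exact exists_pow_mul_isIntegral g n (IsIntegral.of_finite Af (algebraMap N Nf n))
  -- functions are determined on one basic open
  have hres : ∀ n : N, V.presheaf.map (homOfLE (le_top : V.basicOpen (algebraMap A N g₀) ≤ ⊤)).op n = 0 → n = 0 := by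
    intro n hn
    obtain ⟨k, hk⟩ := exists_of_res_eq_of_qcqs_of_top (f := n) (g := (0 : N)) (s := algebraMap A N g₀) (by
      show V.presheaf.map (homOfLE le_top).op n = V.presheaf.map (homOfLE le_top).op 0
      rw [hn, map_zero])
    rw [mul_zero] at hk
    refine TopCat.Sheaf.eq_of_locally_eq' V.sheaf (fun g : maximalIdeal A => V.basicOpen (algebraMap A N g.1)) ⊤
      (fun g => homOfLE le_top) (fun x _ => ?_) n 0 (fun g => ?_)
    · obtain ⟨g, hg⟩ := Opens.mem_iSup.1 ((puncturedSpec_eq_iSup A).le (v.base x).2)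
      refine Opens.mem_iSup.2 ⟨g, ?_⟩
      rw [show algebraMap A N g.1 = (v ≫ U.ι).appTop ((Scheme.ΓSpecIso (CommRingCat.of A)).inv g.1) from congr($(halg).hom g.1),
        ← Scheme.preimage_basicOpen_top]
      exact hg
    · obtain ⟨Af, _, _, _, hAf, hfin, het, hcomm⟩ := basicOpen_data A v halg g.2
      let r := V.presheaf.map (homOfLE (le_top : V.basicOpen (algebraMap A N g.1) ≤ ⊤)).op
      show r n = r 0
      rw [map_zero]
      rcases eq_or_ne g.1 0 with hg0 | hg0
      · have : V.basicOpen (algebraMap A N g.1) = ⊥ := by rw [hg0, map_zero, Scheme.basicOpen_zero]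
        haveI : Subsingleton Γ(V, V.basicOpen (algebraMap A N g.1)) := by rw [this]; infer_instance
        exact Subsingleton.elim _ _
      haveI := hAf
      have hle : Submonoid.powers g.1 ≤ nonZeroDivisors A := powers_le_nonZeroDivisors_of_noZeroDivisors hg0
      haveI : IsDomain Af := IsLocalization.isDomain_of_le_nonZeroDivisors Af hle
      have hne : algebraMap A Af g₀ ^ k ≠ 0 := pow_ne_zero _ fun h0 =>
        hg₀0 (IsLocalization.injective Af hle (h0.trans (map_zero _).symm))
      haveI : Module.Flat Af Γ(V, V.basicOpen (algebraMap A N g.1)) := Algebra.Smooth.flat Af _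
      have h0 : algebraMap A Af g₀ ^ k • r n = 0 := by
        rw [Algebra.smul_def, map_pow, hcomm]
        rw [← map_pow r.hom, ← map_mul r.hom, hk, map_zero]
      have hregN := IsSMulRegular.of_flat (S := Γ(V, V.basicOpen (algebraMap A N g.1)))
        (show IsSMulRegular Af (algebraMap A Af g₀ ^ k) from fun a b hab => mul_left_cancel₀ hne hab)
      refine hregN ?_
      show algebraMap Af _ (algebraMap A Af g₀ ^ k) * r n = algebraMap Af _ (algebraMap A Af g₀ ^ k) * 0
      rw [mul_zero, ← Algebra.smul_def]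
      exact h0
  -- the generic fibre
  obtain ⟨Af, _, _, _, hAf, hfin, het, hcomm⟩ := basicOpen_data A v halg hg₀
  haveI := hAf; haveI := hfin; haveI := het
  let B₀ := Γ(V, V.basicOpen (algebraMap A N g₀))
  haveI : IsDomain Af := IsLocalization.isDomain_of_le_nonZeroDivisors Af (powers_le_nonZeroDivisors_of_noZeroDivisors hg₀0)
  letI : Algebra Af K := (IsLocalization.Away.lift (g := algebraMap A K) g₀
    (IsUnit.mk0 _ fun h0 => hg₀0 (IsFractionRing.injective A K (h0.trans (map_zero _).symm)))).toAlgebra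
  haveI : IsScalarTower A Af K := IsScalarTower.of_algebraMap_eq fun a =>
    (IsLocalization.Away.lift_eq g₀ _ a).symm
  haveI : IsFractionRing Af K :=
    IsFractionRing.isFractionRing_of_isDomain_of_isLocalization (Submonoid.powers g₀) Af K
  let L := K ⊗[Af] B₀
  have hinjL : Function.Injective (Algebra.TensorProduct.includeRight : B₀ →ₐ[Af] L) := by
    haveI : Module.Flat Af B₀ := Algebra.Smooth.flat Af B₀
    exact Algebra.TensorProduct.includeRight_injective (IsFractionRing.injective Af K)
  let ψ : N →+* L := ((Algebra.TensorProduct.includeRight : B₀ →ₐ[Af] L).toRingHom).comp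
    (V.presheaf.map (homOfLE (le_top : V.basicOpen (algebraMap A N g₀) ≤ ⊤)).op).hom
  have hψinj : Function.Injective ψ := (injective_iff_map_eq_zero ψ).2 fun n hn =>
    hres n (hinjL (hn.trans (map_zero _).symm))
  have hψA : ∀ a : A, ψ (algebraMap A N a) = algebraMap A L a := by
    intro a
    show (Algebra.TensorProduct.includeRight : B₀ →ₐ[Af] L) (V.presheaf.map (homOfLE le_top).op (algebraMap A N a)) = _
    rw [← hcomm, AlgHom.commutes]
    rw [IsScalarTower.algebraMap_apply Af K L, ← IsScalarTower.algebraMap_apply A Af K, ← IsScalarTower.algebraMap_apply A K L]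
  let ψA : N →ₐ[A] L := { ψ with commutes' := hψA }
  obtain ⟨I, _, Li, _, _, e, hsep⟩ := (Algebra.FormallyEtale.iff_exists_algEquiv_prod K L).1 inferInstance
  haveI : Fintype I := Fintype.ofFinite I
  haveI : Module.Finite K (∀ i, Li i) := Module.Finite.equiv e.toLinearEquiv
  haveI : ∀ i, FiniteDimensional K (Li i) := fun i =>
    Module.Finite.of_surjective (LinearMap.proj i : (∀ i, Li i) →ₗ[K] Li i) (Function.surjective_eval i)
  letI : ∀ i, Algebra A (Li i) := fun i => ((algebraMap K (Li i)).comp (algebraMap A K)).toAlgebra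
  haveI : ∀ i, IsScalarTower A K (Li i) := fun i => IsScalarTower.of_algebraMap_eq fun _ => rfl
  let χ : ∀ i, N →ₐ[A] Li i := fun i =>
    { ((Pi.evalRingHom Li i).comp e.toRingEquiv.toRingHom).comp ψ with
      commutes' := fun a => by
        show e (ψ (algebraMap A N a)) i = _
        rw [hψA, IsScalarTower.algebraMap_apply A K L, AlgEquiv.commutes]
        rfl }
  have hint : ∀ i (n : N), χ i n ∈ integralClosure A (Li i) := by
    intro i n
    haveI := hsep i
    refine isIntegral_of_pow_mul (A := A) (K := K) hdepth (χ i n) fun g hg _ => ?_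
    obtain ⟨k, hk⟩ := hloc g hg n
    refine ⟨k, ?_⟩
    have := hk.map (χ i)
    rwa [map_smul, Algebra.smul_def, map_pow] at this
  haveI : ∀ i, Module.Finite A ↥(integralClosure A (Li i)) := fun i => by
    haveI := hsep i
    exact IsIntegralClosure.finite A K (Li i) _
  let F : N →ₗ[A] (∀ i, ↥(integralClosure A (Li i))) :=
    LinearMap.pi fun i => ((χ i).codRestrict (integralClosure A (Li i)) (hint i)).toLinearMap
  haveI : IsNoetherian A (∀ i, ↥(integralClosure A (Li i))) := isNoetherian_of_isNoetherianRing_of_finite A _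
  refine Module.Finite.of_injective F ?_
  intro x y hxy
  apply hψinj
  apply e.injective
  funext i
  exact congrArg Subtype.val (congrFun hxy i)

set_option backward.isDefEq.respectTransparency false in
/-- A cover with finite étale algebra of functions extends. -/
theorem isOpenImmersion_toSpecΓ {V : Scheme.{u}} (v : V ⟶ (FEt.puncturedSpec A : Scheme.{u})) [IsFinite v] :
    IsPullback V.toSpecΓ v
      (Spec.map ((Scheme.ΓSpecIso (CommRingCat.of A)).inv ≫ (v ≫ (FEt.puncturedSpec A).ι).appTop))
      (FEt.puncturedSpec A).ι := by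
  let U := FEt.puncturedSpec A
  haveI : CompactSpace (U : Scheme.{u}) :=
    isCompact_iff_compactSpace.1 (NoetherianSpace.isCompact (U : Set (Spec (CommRingCat.of A))))
  haveI : CompactSpace V := QuasiCompact.compactSpace_of_compactSpace v
  haveI : QuasiSeparatedSpace V := quasiSeparatedSpace_of_quasiSeparated v
  let SA := Scheme.ΓSpecIso (CommRingCat.of A)
  let w : V ⟶ Spec (CommRingCat.of A) := v ≫ U.ι
  let p : CommRingCat.of A ⟶ Γ(V, ⊤) := SA.inv ≫ w.appTop
  let t := V.toSpecΓ
  have htw : t ≫ Spec.map p = w := by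
    have := toSpec_comp w p (𝟙 _) (Category.comp_id _)
    rwa [Spec.map_id, Category.comp_id] at this
  let fB : maximalIdeal A → Γ(Spec Γ(V, ⊤), ⊤) := fun g => (Scheme.ΓSpecIso Γ(V, ⊤)).inv (p g.1)
  have hDB : ∀ g : maximalIdeal A, (Spec Γ(V, ⊤)).basicOpen (fB g) =
      Spec.map p ⁻¹ᵁ (Spec (CommRingCat.of A)).basicOpen (SA.inv g.1) := by
    intro g
    rw [Scheme.preimage_basicOpen_top]
    refine congrArg _ ?_
    exact congr($(Scheme.ΓSpecIso_inv_naturality p).hom g.1)
  have hcov : Spec.map p ⁻¹ᵁ U = ⨆ g, (Spec Γ(V, ⊤)).basicOpen (fB g) := by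
    rw [show U = _ from puncturedSpec_eq_iSup A, Scheme.Hom.preimage_iSup]
    exact iSup_congr fun g => (hDB g).symm
  have hbij : Function.Bijective t.appTop := by
    rw [Scheme.toSpecΓ_appTop]
    exact ConcreteCategory.bijective_of_isIso (Scheme.ΓSpecIso Γ(V, ⊤)).hom
  obtain ⟨ht1, ht2⟩ := isOpenImmersion_of_basicOpens t (Spec.map p ⁻¹ᵁ U) (by
      rw [← Scheme.Hom.comp_preimage, htw]
      ext x
      simp only [Opens.coe_top, Set.mem_univ, iff_true]
      exact (v.base x).2) fB hcov (fun g => by
      rw [hDB, ← Scheme.Hom.comp_preimage, htw, Scheme.Hom.comp_preimage]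
      refine (IsAffineOpen.preimage_of_isOpenImmersion ((isAffineOpen_top _).basicOpen _) U.ι ?_).preimage v
      rw [Scheme.Opens.opensRange_ι]
      exact (le_iSup (fun f : maximalIdeal A => (Spec (CommRingCat.of A)).basicOpen (SA.inv f.1)) g).trans
        (puncturedSpec_eq_iSup A).ge) (fun g => by
      refine isIso_appLE_basicOpen t _ (fun x hx => ⟨0, ?_⟩) fun s => ?_
      · rw [pow_zero, one_mul]
        exact hbij.1 (hx.trans (map_zero _).symm)
      · obtain ⟨x, hx⟩ := hbij.2 s
        exact ⟨0, x, by rw [pow_zero, one_mul, hx]⟩)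
  haveI := ht1
  refine (IsOpenImmersion.isPullback v t U.ι (Spec.map p) htw ?_).flip
  rw [Scheme.Opens.opensRange_ι]
  exact Opens.ext ht2.symm

end Groth.Agent.FormalPatch
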